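import Cfsg.Agent.Lib.QuadFixed.Fixed
import Cfsg.Agent.Lib.PSL2.MinimalSimple
import Cfsg.Agent.Lib.PCore.Basic
import Cfsg.Agent.Lib.PF.OddOrder

/-!
A finite linear group over `𝔽_p`, `p ≥ 5`, with a quadratic element outside its `p`-core, acted on by a
group of coprime order: the centraliser of the latter involves `PSL₂(p)`.
-/

set_option autoImplicit false

namespace CfsgLib.QuadFixed

open CfsgLib.Quadratic
open scoped MatrixGroups

universe u

section Transport

variable {G : Type*} [Group G]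

theorem involves_of_injective {G' : Type*} [Group G'] {D : Type*} [Group D] (f : G →* G')
    (hf : Function.Injective f) (h : Cfsg.Involves D G) : Cfsg.Involves D G' :=
  CfsgLib.LocalEven.Involved.involves_of_subgroup (H := f.range)
    (CfsgLib.LocalEven.Involved.involves_of_surjective (MonoidHom.ofInjective hf).symm.toMonoidHom
      (MonoidHom.ofInjective hf).symm.surjective h)

/-- The `p`-core of a normalised subgroup is normalised. -/
theorem conj_mem_map_pCore [Finite G] {p : ℕ} (K : Subgroup G) {g : G}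
    (hg : g ∈ Subgroup.normalizer (K : Set G)) {x : G} (hx : x ∈ (Cfsg.pCore p K).map K.subtype) :
    g * x * g⁻¹ ∈ (Cfsg.pCore p K).map K.subtype := by
  let α : K ≃* K :=
    { toFun := fun k => ⟨g * k * g⁻¹, (Subgroup.mem_normalizer_iff.1 hg _).1 k.2⟩
      invFun := fun k => ⟨g⁻¹ * k * g, (Subgroup.mem_normalizer_iff''.1 hg _).1 k.2⟩
      left_inv := fun k => Subtype.ext (by simp [mul_assoc])
      right_inv := fun k => Subtype.ext (by simp [mul_assoc])
      map_mul' := fun a b => Subtype.ext (by simp [mul_assoc]) }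
  obtain ⟨y, hy, rfl⟩ := hx
  exact ⟨α y, (CfsgLib.PCore.map_pCore_equiv (p := p) α).le ⟨y, hy, rfl⟩, rfl⟩

/-- The centre of `PSL₂` is trivial. -/
theorem center_psl (F : Type*) [Field F] [Fintype F] (h4 : 4 ≤ Fintype.card F) :
    Subgroup.center (Matrix.ProjectiveSpecialLinearGroup (Fin 2) F) = ⊥ := by
  obtain ⟨-, hs, hnc⟩ := CfsgLib.PSL2.psl_not_solvable (K := F) h4
  refine ((Subgroup.center _).normal_of_characteristic.eq_bot_or_eq_top).resolve_right fun h => hnc ?_
  exact ⟨⟨fun a b => ((Subgroup.mem_center_iff.1 (h ▸ Subgroup.mem_top a)) b).symm⟩⟩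

/-- If the distinct `A`-conjugates of `N` commute elementwise, a centreless section of `C_N(N_A(N))` is
a section of the centraliser of `A`, through the diagonal. -/
theorem involves_diag [Finite G] {D : Type*} [Group D] (hD : Subgroup.center D = ⊥)
    (N A H : Subgroup G) (hNH : N ≤ H) (hA : ∀ a ∈ A, ∀ h ∈ H, a * h * a⁻¹ ∈ H)
    (hcomm : ∀ a ∈ A, a ∉ Subgroup.normalizer (N : Set G) → ∀ x ∈ N, ∀ y ∈ N, x * (a * y * a⁻¹) = a * y * a⁻¹ * x)
    (hinv : Cfsg.Involves D
      ↥(N ⊓ Subgroup.centralizer ((A ⊓ Subgroup.normalizer (N : Set G) : Subgroup G) : Set G))) :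
    Cfsg.Involves D ↥(H ⊓ Subgroup.centralizer (A : Set G)) := by
  classical
  set B := A ⊓ Subgroup.normalizer (N : Set G) with hB
  set C := N ⊓ Subgroup.centralizer (B : Set G) with hC
  let B' : Subgroup A := B.subgroupOf A
  let φ : A ⧸ B' → C →* G := fun q => (MulAut.conj (q.out : A).1).toMonoidHom.comp C.subtype
  have hrep : ∀ (a : A) (x : C), φ (QuotientGroup.mk a) x = a.1 * x.1 * a.1⁻¹ := by
    intro a x
    obtain ⟨⟨b, hb⟩, hbe⟩ := QuotientGroup.mk_out_eq_mul B' a
    show (QuotientGroup.mk a : A ⧸ B').out.1 * x.1 * (QuotientGroup.mk a : A ⧸ B').out.1⁻¹ = _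
    rw [hbe]
    have h1 : b.1 * x.1 = x.1 * b.1 := Subgroup.mem_centralizer_iff.1 (Subgroup.mem_inf.1 x.2).2 _ hb
    calc (a * b : A).1 * x.1 * (a * b : A).1⁻¹ = a.1 * (b.1 * x.1) * b.1⁻¹ * a.1⁻¹ := by
          simp [mul_assoc]
      _ = a.1 * (x.1 * b.1) * b.1⁻¹ * a.1⁻¹ := by rw [h1]
      _ = _ := by group
  have hφcomm : ∀ q r : A ⧸ B', q ≠ r → ∀ x y : G, x ∈ N → y ∈ N →
      Commute (q.out.1 * x * q.out.1⁻¹) (r.out.1 * y * r.out.1⁻¹) := by
    intro q r hqr x y hx hy
    have hn : (q.out⁻¹ * r.out : A).1 ∉ Subgroup.normalizer (N : Set G) := fun h => hqr (by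
      rw [← q.out_eq, ← r.out_eq]
      exact QuotientGroup.eq.2 (Subgroup.mem_subgroupOf.2 ⟨(q.out⁻¹ * r.out).2, h⟩))
    have h1 := hcomm _ (q.out⁻¹ * r.out).2 hn x hx y hy
    show q.out.1 * x * q.out.1⁻¹ * (r.out.1 * y * r.out.1⁻¹) = r.out.1 * y * r.out.1⁻¹ * (q.out.1 * x * q.out.1⁻¹)
    calc q.out.1 * x * q.out.1⁻¹ * (r.out.1 * y * r.out.1⁻¹)
        = q.out.1 * (x * ((q.out⁻¹ * r.out : A).1 * y * (q.out⁻¹ * r.out : A).1⁻¹)) * q.out.1⁻¹ := by
          push_cast; group
      _ = _ := by rw [h1]; push_cast; group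
  have hpw : Pairwise fun q r : A ⧸ B' => ∀ x y, Commute (φ q x) (φ r y) :=
    fun q r hqr x y => hφcomm q r hqr _ _ (Subgroup.mem_inf.1 x.2).1 (Subgroup.mem_inf.1 y.2).1
  have : Fintype (A ⧸ B') := Fintype.ofFinite _
  let ψ : C →* G := (MonoidHom.noncommPiCoprod φ hpw).comp (MonoidHom.pi fun _ => MonoidHom.id C)
  have hψval : ∀ x : C, ψ x = Finset.univ.noncommProd (fun q => φ q x)
      (fun q _ r _ h => hpw h x x) := fun x => rfl
  have hψmem : ∀ x, ψ x ∈ H ⊓ Subgroup.centralizer (A : Set G) := by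
    intro x
    refine Subgroup.mem_inf.2 ⟨?_, Subgroup.mem_centralizer_iff.2 fun a ha => ?_⟩
    · rw [hψval]
      exact Subgroup.noncommProd_mem _ _ fun q _ => hA _ q.out.2 _ (hNH (Subgroup.mem_inf.1 x.2).1)
    · rw [hψval]
      let M := Subgroup.closure (Set.range fun q => φ q x)
      have hMc : ∀ u v : M, u * v = v * u := by
        have hle : M ≤ Subgroup.centralizer (M : Set G) := by
          rw [Subgroup.centralizer_closure, Subgroup.closure_le]
          rintro _ ⟨q, rfl⟩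
          refine Subgroup.mem_centralizer_iff.2 ?_
          rintro _ ⟨r, rfl⟩
          rcases eq_or_ne r q with rfl | hqr
          exacts [rfl, (hpw hqr x x).eq]
        exact fun u v => Subtype.ext (Subgroup.mem_centralizer_iff.1 (hle u.2) _ v.2).symm
      let : CommGroup M := { (inferInstance : Group M) with mul_comm := hMc }
      let fM : A ⧸ B' → M := fun q => ⟨φ q x, Subgroup.subset_closure ⟨q, rfl⟩⟩
      have hprod : Finset.univ.noncommProd (fun q => φ q x) (fun q _ r _ h => hpw h x x) =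
          M.subtype (∏ q, fM q) := by
        rw [← Finset.noncommProd_eq_prod]
        exact (Finset.map_noncommProd Finset.univ fM _ M.subtype).symm
      have hact : ∀ q, a * φ q x * a⁻¹ = φ (MulAction.toPerm (⟨a, ha⟩ : A) q) x := by
        intro q
        induction q using QuotientGroup.induction_on with
        | _ g =>
          rw [MulAction.toPerm_apply, hrep g, MulAction.Quotient.smul_mk, hrep, smul_eq_mul]
          push_cast
          group
      have hmem : ∀ u : M, a * u.1 * a⁻¹ ∈ M := by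
        intro u
        have hle : M ≤ M.comap (MulAut.conj a).toMonoidHom := by
          rw [Subgroup.closure_le]
          rintro _ ⟨q, rfl⟩
          exact Subgroup.subset_closure ⟨_, (hact q).symm⟩
        exact hle u.2
      let c : M →* M := ((MulAut.conj a).toMonoidHom.comp M.subtype).codRestrict M hmem
      have hce : c (∏ q, fM q) = ∏ q, fM q := by
        rw [map_prod]
        exact Fintype.prod_equiv (MulAction.toPerm (⟨a, ha⟩ : A)) _ _ fun q => Subtype.ext (hact q)
      have h1 : a * M.subtype (∏ q, fM q) * a⁻¹ = M.subtype (∏ q, fM q) := congrArg M.subtype hce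
      rw [hprod]
      exact mul_inv_eq_iff_eq_mul.1 h1
  let Ψ := ψ.codRestrict _ hψmem
  obtain ⟨K, f, hf⟩ := CfsgLib.LocalEven.Involved.exists_hom_of_involves hinv
  refine CfsgLib.LocalEven.Involved.involves_of_factor (Ψ.comp K.subtype) f hf ?_
  intro k hk
  have hk1 : ψ k.1 = 1 := congrArg Subtype.val (MonoidHom.mem_ker.1 hk)
  have hcen : ∀ z ∈ N, z * k.1.1 = k.1.1 * z := by
    intro z hz
    set q₀ : A ⧸ B' := QuotientGroup.mk 1 with hq₀
    have hk0 : φ q₀ k.1 = k.1.1 := by rw [hq₀, hrep]; simp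
    have hrest : Commute z ((Finset.univ.erase q₀).noncommProd (fun q => φ q k.1)
        (fun q _ r _ h => hpw h _ _)) := by
      refine Finset.noncommProd_commute _ _ _ _ fun q hq => ?_
      obtain ⟨z', hz', rfl⟩ : ∃ z' ∈ N, q₀.out.1 * z' * q₀.out.1⁻¹ = z := by
        obtain ⟨⟨b, hb⟩, hbe⟩ := QuotientGroup.mk_out_eq_mul B' (1 : A)
        rw [hq₀, hbe, one_mul]
        refine ⟨b.1⁻¹ * z * b.1, CfsgLib.Coprime.mem_normalizer_conj' (Subgroup.mem_inf.1 hb).2 hz, ?_⟩
        show b.1 * (b.1⁻¹ * z * b.1) * b.1⁻¹ = z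
        group
      exact hφcomm q₀ q (Ne.symm (Finset.ne_of_mem_erase hq)) _ _ hz' (Subgroup.mem_inf.1 k.1.2).1
    have hsplit : φ q₀ k.1 * (Finset.univ.erase q₀).noncommProd (fun q => φ q k.1)
        (fun q _ r _ h => hpw h _ _) = 1 := by
      rw [← hk1, hψval]
      exact Finset.mul_noncommProd_erase _ (Finset.mem_univ q₀) (fun q => φ q k.1) (fun q _ r _ h => hpw h _ _)
    rw [hk0] at hsplit
    rw [eq_inv_of_mul_eq_one_left hsplit]
    exact hrest.inv_right.eq
  refine MonoidHom.mem_ker.2 ?_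
  have hcenter : f k ∈ Subgroup.center D := by
    rw [Subgroup.mem_center_iff]
    intro y
    obtain ⟨u, rfl⟩ := hf y
    rw [← map_mul, ← map_mul]
    exact congrArg f (Subtype.ext (Subtype.ext (hcen _ (Subgroup.mem_inf.1 u.1.2).1)))
  rwa [hD, Subgroup.mem_bot] at hcenter

end Transport

variable {p : ℕ} [Fact p.Prime] {V : Type u} [AddCommGroup V] [Module (ZMod p) V]

/-- The stabiliser of a subspace. -/
def stabW (W : Submodule (ZMod p) V) : Subgroup (LinearMap.GeneralLinearGroup (ZMod p) V) where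
  carrier := {g | (∀ v ∈ W, g.1 v ∈ W) ∧ ∀ v ∈ W, g⁻¹.1 v ∈ W}
  one_mem' := ⟨fun v hv => hv, fun v hv => by rw [inv_one]; exact hv⟩
  mul_mem' := fun {a b} ha hb => ⟨fun v hv => ha.1 _ (hb.1 v hv), fun v hv => by
    rw [_root_.mul_inv_rev]; exact hb.2 _ (ha.2 v hv)⟩
  inv_mem' := fun {a} ha => ⟨ha.2, by rw [inv_inv]; exact ha.1⟩

variable [Finite V]

theorem mem_stabW {W : Submodule (ZMod p) V} {g : LinearMap.GeneralLinearGroup (ZMod p) V}
    (h : ∀ v ∈ W, g.1 v ∈ W) : g ∈ stabW W := by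
  refine ⟨h, fun v hv => ?_⟩
  have hgi : ∀ u, g⁻¹.1 (g.1 u) = u := fun u => LinearMap.congr_fun (Units.inv_mul g) u
  have hinj : Function.Injective fun w : W => (⟨g.1 w.1, h _ w.2⟩ : W) := fun a b e => by
    have := congrArg (fun w : W => g⁻¹.1 w.1) e
    simp only [hgi] at this
    exact Subtype.ext this
  obtain ⟨⟨w, hw⟩, e⟩ := (Finite.injective_iff_surjective.1 hinj) ⟨v, hv⟩
  rw [show v = g.1 w from (congrArg Subtype.val e).symm, hgi]
  exact hw

/-- The action on the subspace. -/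
noncomputable def resW (W : Submodule (ZMod p) V) :
    stabW W →* LinearMap.GeneralLinearGroup (ZMod p) W :=
  MonoidHom.toHomUnits
    { toFun := fun g => g.1.1.restrict g.2.1
      map_one' := LinearMap.ext fun _ => rfl
      map_mul' := fun _ _ => LinearMap.ext fun _ => rfl }

/-- The action on the quotient. -/
noncomputable def quoW (W : Submodule (ZMod p) V) :
    stabW W →* LinearMap.GeneralLinearGroup (ZMod p) (V ⧸ W) :=
  MonoidHom.toHomUnits
    { toFun := fun g => W.mapQ W g.1.1 g.2.1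
      map_one' := Submodule.linearMap_qext _ (LinearMap.ext fun _ => rfl)
      map_mul' := fun _ _ => Submodule.linearMap_qext _ (LinearMap.ext fun _ => rfl) }

/-- A quadratic element outside the `p`-core. -/
def Bad (H : Subgroup (LinearMap.GeneralLinearGroup (ZMod p) V)) : Prop :=
  ∃ x : V →ₗ[ZMod p] V, x * x = 0 ∧ ∃ h : tt x ∈ H, (⟨tt x, h⟩ : H) ∉ Cfsg.pCore p H

variable {F : Type*} [Field F] [Fintype F] (hF : Fintype.card F = p) (hp5 : 5 ≤ p)

variable (p F) in
/-- The statement for one pair of groups. -/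
def KeyAt {V : Type u} [AddCommGroup V] [Module (ZMod p) V]
    (H A : Subgroup (LinearMap.GeneralLinearGroup (ZMod p) V)) : Prop :=
  (∀ a ∈ A, ∀ h ∈ H, a * h * a⁻¹ ∈ H) → (Nat.card A).Coprime (Nat.card H) → Bad H →
    Cfsg.Involves (Matrix.ProjectiveSpecialLinearGroup (Fin 2) F)
      ↥(H ⊓ Subgroup.centralizer (A : Set (LinearMap.GeneralLinearGroup (ZMod p) V)))

omit [Finite V] in
/-- Coprime groups: one of them is solvable. -/
theorem solvable_of_coprime {G : Type*} [Group G] [Finite G] (A H : Subgroup G)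
    (h : (Nat.card A).Coprime (Nat.card H)) : Group.IsSolvable A ∨ Group.IsSolvable H := by
  by_cases hA : Odd (Nat.card A)
  · exact Or.inl (CfsgLib.PF.oddSolvable _ hA)
  refine Or.inr (CfsgLib.PF.oddSolvable _ ?_)
  rw [← Nat.not_even_iff_odd]
  intro hH
  rw [Nat.not_odd_iff_even] at hA
  exact Nat.not_coprime_of_dvd_of_dvd (by norm_num) hA.two_dvd hH.two_dvd h

/-- Passing to an image. -/
theorem key_of_image {V' : Type u} [AddCommGroup V'] [Module (ZMod p) V'] [Finite V']
    {S : Subgroup (LinearMap.GeneralLinearGroup (ZMod p) V)} (ρ : S →* LinearMap.GeneralLinearGroup (ZMod p) V')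
    {H A : Subgroup (LinearMap.GeneralLinearGroup (ZMod p) V)} (hHS : H ≤ S) (hAS : A ≤ S)
    (hA : ∀ a ∈ A, ∀ h ∈ H, a * h * a⁻¹ ∈ H) (hcop : (Nat.card A).Coprime (Nat.card H))
    (hbad : Bad ((H.subgroupOf S).map ρ))
    (ih : KeyAt p F ((H.subgroupOf S).map ρ) ((A.subgroupOf S).map ρ)) :
    Cfsg.Involves (Matrix.ProjectiveSpecialLinearGroup (Fin 2) F)
      ↥(H ⊓ Subgroup.centralizer (A : Set (LinearMap.GeneralLinearGroup (ZMod p) V))) := by
  set H' := H.subgroupOf S
  set A' := A.subgroupOf S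
  have cH : Nat.card H' = Nat.card H := CfsgLib.Coprime.card_subgroupOf hHS
  have cA : Nat.card A' = Nat.card A := CfsgLib.Coprime.card_subgroupOf hAS
  have hn : A' ≤ Subgroup.normalizer (H' : Set S) := fun a ha =>
    CfsgLib.Coprime.mem_normalizer_of_forall_conj fun h hh => hA _ ha _ hh
  have hcop' : (Nat.card A').Coprime (Nat.card H') := by rw [cH, cA]; exact hcop
  have hinv := ih (by
      rintro _ ⟨a, ha, rfl⟩ _ ⟨h, hh, rfl⟩
      exact ⟨a * h * a⁻¹, hA _ ha _ hh, by simp⟩)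
    ((hcop'.coprime_dvd_left (A'.card_map_dvd ρ)).coprime_dvd_right (H'.card_map_dvd ρ)) hbad
  rw [← CfsgLib.Coprime.map_inf_centralizer ρ A' H' hn hcop' (solvable_of_coprime A' H' hcop')] at hinv
  have h1 := CfsgLib.LocalEven.Involved.involves_of_surjective (ρ.subgroupMap _)
    (ρ.subgroupMap_surjective _) hinv
  refine involves_of_injective ((S.subtype.comp (Subgroup.subtype _)).codRestrict _ fun x => Subgroup.mem_inf.2 ⟨(Subgroup.mem_inf.1 x.2).1, ?_⟩) ?_ h1
  · exact Subgroup.mem_centralizer_iff.2 fun a ha =>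
      congrArg Subtype.val (Subgroup.mem_centralizer_iff.1 (Subgroup.mem_inf.1 x.2).2 ⟨a, hAS ha⟩ ha)
  · intro a b h
    have h' : a.1.1 = b.1.1 := congrArg (fun z => z.1) h
    exact Subtype.ext (Subtype.ext h')

include hp5 in
theorem tt_pow_p {x : V →ₗ[ZMod p] V} (hx : x * x = 0) : tt x ^ p = 1 := by
  rw [← tt_nsmul hx, ZMod.natCast_self, zero_smul, tt_zero]

/-- The `p`-core of an irreducible group is trivial. -/
theorem pCore_eq_bot_of_irreducible (H A : Subgroup (LinearMap.GeneralLinearGroup (ZMod p) V))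
    (hA : ∀ a ∈ A, ∀ h ∈ H, a * h * a⁻¹ ∈ H)
    (hirr : ∀ W : Submodule (ZMod p) V, (∀ g ∈ H, ∀ v ∈ W, g.1 v ∈ W) → (∀ g ∈ A, ∀ v ∈ W, g.1 v ∈ W) →
      W = ⊥ ∨ W = ⊤) :
    Cfsg.pCore p H = ⊥ := by
  have hHn : ∀ h ∈ H, h ∈ Subgroup.normalizer (H : Set (LinearMap.GeneralLinearGroup (ZMod p) V)) :=
    fun h hh => Subgroup.le_normalizer hh
  have hAn : ∀ a ∈ A, a ∈ Subgroup.normalizer (H : Set (LinearMap.GeneralLinearGroup (ZMod p) V)) :=
    fun a ha => mem_normalizer_H.2 (hA a ha)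
  rcases subsingleton_or_nontrivial V with hn | hnt
  · rw [eq_bot_iff]
    intro g _
    exact Subgroup.mem_bot.2 (Subtype.ext (Units.ext (LinearMap.ext fun v => Subsingleton.elim _ _)))
  set P := (Cfsg.pCore p H).map H.subtype with hPdef
  have hP : IsPGroup p P := CfsgLib.PCore.pCore_isPGroup.map _
  let U : Submodule (ZMod p) V :=
    { carrier := {v | ∀ g ∈ P, g.1 v = v}
      add_mem' := fun ha hb g hg => by rw [map_add, ha g hg, hb g hg]
      zero_mem' := fun g _ => map_zero _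
      smul_mem' := fun c v hv g hg => by rw [map_smul, hv g hg] }
  have hU : ∀ g, g ∈ Subgroup.normalizer (H : Set (LinearMap.GeneralLinearGroup (ZMod p) V)) →
      ∀ v ∈ U, g.1 v ∈ U := by
    intro g hg v hv q hq
    have h1 := hv _ (conj_mem_map_pCore H (inv_mem hg) hq)
    rw [inv_inv] at h1
    calc q.1 (g.1 v) = g.1 ((g⁻¹ * q * g).1 v) := by
          show q.1 (g.1 v) = (g * (g⁻¹ * q * g)).1 v
          rw [show g * (g⁻¹ * q * g) = q * g by group]
          rfl
      _ = g.1 v := by rw [h1]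
  rcases hirr U (fun g hg => hU g (hHn g hg)) (fun g hg => hU g (hAn g hg)) with hb | ht
  · exfalso
    have hdvd : p ∣ Nat.card V := by
      have := Fintype.ofFinite V
      rw [Nat.card_eq_fintype_card, Module.card_eq_pow_finrank (K := ZMod p) (V := V), ZMod.card]
      exact dvd_pow_self p Module.finrank_pos.ne'
    obtain ⟨v, hv, hv0⟩ := hP.exists_fixed_point_of_prime_dvd_card_of_fixed_point (α := V) hdvd
      (a := 0) (fun g => map_zero g.1.1)
    have : v ∈ U := fun g hg => hv ⟨g, hg⟩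
    rw [hb, Submodule.mem_bot] at this
    exact hv0 this.symm
  · rw [eq_bot_iff]
    intro g hg
    refine Subgroup.mem_bot.2 (Subtype.ext (Units.ext (LinearMap.ext fun v => ?_)))
    exact (ht ▸ Submodule.mem_top : v ∈ U) _ ⟨g, hg, rfl⟩

include hF hp5 in
theorem key_irreducible (H A : Subgroup (LinearMap.GeneralLinearGroup (ZMod p) V))
    (ih : ∀ H₁ A₁ : Subgroup (LinearMap.GeneralLinearGroup (ZMod p) V), Nat.card H₁ < Nat.card H →
      KeyAt p F H₁ A₁)
    (hA : ∀ a ∈ A, ∀ h ∈ H, a * h * a⁻¹ ∈ H) (hcop : (Nat.card A).Coprime (Nat.card H)) (hbad : Bad H)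
    (hirr : ∀ W : Submodule (ZMod p) V, (∀ g ∈ H, ∀ v ∈ W, g.1 v ∈ W) → (∀ g ∈ A, ∀ v ∈ W, g.1 v ∈ W) →
      W = ⊥ ∨ W = ⊤) :
    Cfsg.Involves (Matrix.ProjectiveSpecialLinearGroup (Fin 2) F)
      ↥(H ⊓ Subgroup.centralizer (A : Set (LinearMap.GeneralLinearGroup (ZMod p) V))) := by
  have h2 : (2 : ZMod p) ≠ 0 := Ring.two_ne_zero (by rw [ZMod.ringChar_zmod_n]; omega)
  have h3 : Nat.card (ZMod p) ≠ 3 := by rw [Nat.card_zmod]; omega
  have hsolv := solvable_of_coprime A H hcop
  have hHn : ∀ h ∈ H, h ∈ Subgroup.normalizer (H : Set (LinearMap.GeneralLinearGroup (ZMod p) V)) :=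
    fun h hh => Subgroup.le_normalizer hh
  have hAn : ∀ a ∈ A, a ∈ Subgroup.normalizer (H : Set (LinearMap.GeneralLinearGroup (ZMod p) V)) :=
    fun a ha => mem_normalizer_H.2 (hA a ha)
  have hO : Cfsg.pCore p H = ⊥ := pCore_eq_bot_of_irreducible H A hA hirr
  have hO' : ∀ N : Subgroup H, N.Normal → IsPGroup p N → N = ⊥ := fun N h1 h4 =>
    le_bot_iff.1 (hO ▸ CfsgLib.PCore.le_pCore h1 h4)
  have hop : ∀ s : El H, ∃ t, Opp' s t := fun s => by
    obtain ⟨t, ht, h⟩ := exists_opposite (by omega) h2 hO' s.2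
    exact ⟨⟨t, ht⟩, h⟩
  -- a least element
  obtain ⟨s₀⟩ : Nonempty (El H) := by
    classical
    obtain ⟨x, hx, hxH, hxO⟩ := hbad
    have hex : ∃ n, ∃ y, Fam H y ∧ y ≠ 0 ∧ rk y = n := ⟨_, x, fam_of_mem hx hxH, fun e => hxO (by
      rw [show (⟨tt x, hxH⟩ : H) = 1 from Subtype.ext (by simp [e, tt_zero])]; exact one_mem _), rfl⟩
    obtain ⟨y, hy, hy0, hyn⟩ := Nat.find_spec hex
    exact ⟨⟨y, hy, hy0, fun z hz hz0 => hyn ▸ Nat.find_min' hex ⟨z, hz, hz0, rfl⟩⟩⟩
  -- normal subgroups containing a least element inherit `Bad`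
  have hsub : ∀ N : Subgroup (LinearMap.GeneralLinearGroup (ZMod p) V), N ≤ H →
      (∀ h ∈ H, ∀ n ∈ N, h * n * h⁻¹ ∈ N) → ∀ s : El H, tt s.1 ∈ N → Bad N := by
    intro N hNH hN s hs
    refine ⟨s.1, s.2.1.1, hs, fun hmem => ?_⟩
    set P := ((Cfsg.pCore p N).map N.subtype).subgroupOf H with hP
    have hPn : P.Normal := ⟨fun q hq h => by
      rw [Subgroup.mem_subgroupOf] at hq ⊢
      exact conj_mem_map_pCore N (mem_normalizer_H.2 (hN _ h.2)) hq⟩
    have hPb : P = ⊥ := hO' P hPn ((CfsgLib.PCore.pCore_isPGroup.map _).comap_subtype)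
    have hsP : (⟨tt s.1, s.2.1.tt_mem⟩ : H) ∈ P := ⟨⟨tt s.1, hs⟩, hmem, rfl⟩
    rw [hPb, Subgroup.mem_bot] at hsP
    exact s.2.2.1 (tt_inj s.2.1.1 (mul_zero _) (by rw [tt_zero]; exact congrArg Subtype.val hsP))
  have hlt : ∀ N : Subgroup (LinearMap.GeneralLinearGroup (ZMod p) V), N ≤ H → N ≠ H →
      Nat.card N < Nat.card H := fun N hN hne =>
    lt_of_not_ge fun h => hne (Subgroup.eq_of_le_of_card_ge hN h)
  have hmono : ∀ N : Subgroup (LinearMap.GeneralLinearGroup (ZMod p) V), N ≤ H →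
      Cfsg.Involves (Matrix.ProjectiveSpecialLinearGroup (Fin 2) F)
        ↥(N ⊓ Subgroup.centralizer (A : Set (LinearMap.GeneralLinearGroup (ZMod p) V))) →
      Cfsg.Involves (Matrix.ProjectiveSpecialLinearGroup (Fin 2) F)
        ↥(H ⊓ Subgroup.centralizer (A : Set (LinearMap.GeneralLinearGroup (ZMod p) V))) := fun N hN h =>
    involves_of_injective (Subgroup.inclusion (inf_le_inf_right _ hN)) (Subgroup.inclusion_injective _) h
  -- reduction to the case generated by least elements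
  set H₀ := Subgroup.closure {g | ∃ s : El H, g = tt s.1} with hH₀
  have hH₀H : H₀ ≤ H := (Subgroup.closure_le _).2 (by rintro _ ⟨s, rfl⟩; exact s.2.1.tt_mem)
  have hH₀n : ∀ g, (∀ h ∈ H, g * h * g⁻¹ ∈ H) → ∀ n ∈ H₀, g * n * g⁻¹ ∈ H₀ := by
    intro g hg n hn
    have hle : H₀ ≤ H₀.comap (MulAut.conj g).toMonoidHom := by
      rw [hH₀, Subgroup.closure_le]
      rintro _ ⟨s, rfl⟩
      refine Subgroup.subset_closure ⟨actN g hg s, ?_⟩
      exact tt_cjl g s.2.1.1
    exact hle hn
  have hconjH : ∀ h ∈ H, ∀ x ∈ H, h * x * h⁻¹ ∈ H := fun h hh x hx => mul_mem (mul_mem hh hx) (inv_mem hh)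
  by_cases hgen : H₀ = H
  swap
  · refine hmono H₀ hH₀H (ih H₀ A (hlt _ hH₀H hgen) (fun a ha => hH₀n a (hA a ha))
      (hcop.coprime_dvd_right (Subgroup.card_dvd_of_le hH₀H))
      (hsub H₀ hH₀H (fun h hh => hH₀n h (hconjH h hh)) s₀ (Subgroup.subset_closure ⟨s₀, rfl⟩)))
  by_cases hone : ∀ s t : El H, Reach s t
  swap
  · -- several components
    push Not at hone
    obtain ⟨s, t₀, hst⟩ := hone
    let NN : El H → Subgroup (LinearMap.GeneralLinearGroup (ZMod p) V) := fun r =>
      Subgroup.closure {g | ∃ t : El H, Reach r t ∧ g = tt t.1}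
    set N := NN s with hNdef
    have hNH : N ≤ H := (Subgroup.closure_le _).2 (by rintro _ ⟨t, -, rfl⟩; exact t.2.1.tt_mem)
    have hNN : ∀ g (hg : ∀ h ∈ H, g * h * g⁻¹ ∈ H) (r : El H), ∀ n ∈ NN r, g * n * g⁻¹ ∈ NN (actN g hg r) := by
      intro g hg r n hn
      have hle : NN r ≤ (NN (actN g hg r)).comap (MulAut.conj g).toMonoidHom := by
        rw [Subgroup.closure_le]
        rintro _ ⟨t, ht, rfl⟩
        exact Subgroup.subset_closure ⟨actN g hg t, ht.act hg, tt_cjl g t.2.1.1⟩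
      exact hle hn
    have hNeq : ∀ {r r' : El H}, Reach r r' → NN r = NN r' := fun {r r'} h => by
      refine congrArg Subgroup.closure (Set.ext fun g => ⟨?_, ?_⟩) <;> rintro ⟨t, ht, rfl⟩
      exacts [⟨t, (Reach.symm h2 h).trans ht, rfl⟩, ⟨t, h.trans ht, rfl⟩]
    have hNcomm : ∀ {r r' : El H}, ¬ Reach r r' → ∀ a ∈ NN r, ∀ b ∈ NN r', a * b = b * a := by
      intro r r' hrr
      have hle : NN r ≤ Subgroup.centralizer (NN r' : Set (LinearMap.GeneralLinearGroup (ZMod p) V)) := by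
        rw [Subgroup.centralizer_closure, Subgroup.closure_le]
        rintro _ ⟨t, ht, rfl⟩
        refine Subgroup.mem_centralizer_iff.2 ?_
        rintro _ ⟨t', ht', rfl⟩
        refine ((commute_tt_iff t.2.1.1 t'.2.1.1).2 (commute_of_not_reach h2 h3 hop fun h => hrr ?_).2).symm
        exact ht.trans (h.trans (Reach.symm h2 ht'))
      intro a ha b hb
      exact (Subgroup.mem_centralizer_iff.1 (hle ha) b hb).symm
    have hsN : tt s.1 ∈ N := Subgroup.subset_closure ⟨s, Relation.ReflTransGen.refl, rfl⟩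
    have hNn : ∀ h ∈ H, ∀ n ∈ N, h * n * h⁻¹ ∈ N := by
      have hle : H₀ ≤ Subgroup.normalizer (N : Set (LinearMap.GeneralLinearGroup (ZMod p) V)) := by
        rw [hH₀, Subgroup.closure_le]
        rintro _ ⟨x, rfl⟩
        refine CfsgLib.Coprime.mem_normalizer_of_forall_conj fun n hn => ?_
        have := hNN _ (hconjH _ x.2.1.tt_mem) s n hn
        rwa [hNeq (reach_cjl_tt h2 h3 hop x s _)] at this
      intro h hh n hn
      exact CfsgLib.Coprime.mem_normalizer_conj (hle (hgen.symm ▸ hh)) hn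
    have hNne : N ≠ H := by
      intro e
      have hc : ∀ h ∈ H, h * tt t₀.1 = tt t₀.1 * h := fun h hh =>
        hNcomm hst h (by show h ∈ N; rw [e]; exact hh) _ (Subgroup.subset_closure ⟨t₀, Relation.ReflTransGen.refl, rfl⟩)
      let g : H := ⟨tt t₀.1, t₀.2.1.tt_mem⟩
      have hn : (Subgroup.zpowers g).Normal := ⟨fun z hz h => by
        obtain ⟨i, rfl⟩ := Subgroup.mem_zpowers_iff.1 hz
        have : Commute h g := Subtype.ext (hc h h.2)
        rw [(this.zpow_right i).eq, mul_inv_cancel_right]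
        exact Subgroup.zpow_mem_zpowers g i⟩
      have hgp : IsPGroup p (Subgroup.zpowers g) := by
        intro z
        refine ⟨1, Subtype.ext (Subtype.ext ?_)⟩
        obtain ⟨i, hi⟩ := Subgroup.mem_zpowers_iff.1 z.2
        push_cast
        rw [← hi, pow_one]
        push_cast
        rw [← zpow_natCast, ← zpow_mul, mul_comm, zpow_mul, zpow_natCast, tt_pow_p hp5 t₀.2.1.1, one_zpow]
      have := hO' _ hn hgp
      rw [Subgroup.zpowers_eq_bot] at this
      exact t₀.2.2.1 (tt_inj t₀.2.1.1 (mul_zero _) (by rw [tt_zero]; exact congrArg Subtype.val this))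
    set B := A ⊓ Subgroup.normalizer (N : Set (LinearMap.GeneralLinearGroup (ZMod p) V)) with hB
    have hinv := ih N B (hlt N hNH hNne) (fun b hb n hn => CfsgLib.Coprime.mem_normalizer_conj hb.2 hn)
      ((hcop.coprime_dvd_left (Subgroup.card_dvd_of_le inf_le_left)).coprime_dvd_right
        (Subgroup.card_dvd_of_le hNH)) (hsub N hNH hNn s hsN)
    refine involves_diag (center_psl F (by omega)) N A H hNH hA ?_ hinv
    intro a ha haN x hx y hy
    refine hNcomm (fun h => haN ?_) x hx _ (hNN a (hA a ha) s y hy)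
    refine CfsgLib.Coprime.mem_normalizer_of_forall_conj fun n hn => ?_
    have h1 := hNN a (hA a ha) s n hn
    rwa [← hNeq h] at h1
  -- a single component
  obtain ⟨e, f, he, hfm, P, hAi, hAe⟩ := exists_fixed_invol hp5 h2 h3 hA hcop hsolv hone hop s₀
  have hiH : P.inv ∈ H := P.sl_mem he.1 hfm.1 _
  set H' := H ⊓ Subgroup.centralizer {P.inv} with hH'
  by_cases hH'H : H' = H
  swap
  · have hslH' : ∀ M, P.sl M ∈ H' := by
      intro M
      refine ⟨P.sl_mem he.1 hfm.1 M, Subgroup.mem_centralizer_singleton_iff.2 ?_⟩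
      rw [Pair.inv, ← map_mul, ← map_mul]
      congr 1
      refine RingSL2.ext ?_ ?_ ?_ ?_ <;>
        simp only [RingSL2.mul_00, RingSL2.mul_01, RingSL2.mul_10, RingSL2.mul_11] <;> simp [negSL]
    refine hmono H' inf_le_left (ih H' A (hlt _ inf_le_left hH'H) (fun a ha h hh => ⟨hA a ha h hh.1, ?_⟩)
      (hcop.coprime_dvd_right (Subgroup.card_dvd_of_le inf_le_left)) ⟨e, he.1.1, ?_, ?_⟩)
    · refine Subgroup.mem_centralizer_singleton_iff.2 ?_
      have h1 := Subgroup.mem_centralizer_singleton_iff.1 hh.2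
      have hc : Commute P.inv a := (hAi a ha).symm
      exact (hc.mul_right (show Commute P.inv h from h1.symm) |>.mul_right hc.inv_right).eq.symm
    · have := hslH' (RingSL2.U 1)
      rwa [P.sl_up, one_smul] at this
    · intro hmem
      set Q := (Cfsg.pCore p H').map H'.subtype
      have hQ : IsPGroup p Q := CfsgLib.PCore.pCore_isPGroup.map _
      have hwn : P.w ∈ Subgroup.normalizer (H' : Set (LinearMap.GeneralLinearGroup (ZMod p) V)) :=
        Subgroup.le_normalizer (hslH' _)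
      have he' : tt e ∈ Q := ⟨_, hmem, rfl⟩
      have hf' : tt f ∈ Q := by
        have := conj_mem_map_pCore H' hwn he'
        rw [tt_cjl _ he.1.1, show cjl P.w e = -f from P.w_e, tt_neg hfm.1.1] at this
        exact inv_mem_iff.1 this
      have hi : P.inv ∈ Q := P.sl_range_le Q (fun c => by rw [tt_smul he.1.1]; exact pow_mem he' _)
        (fun c => by rw [tt_smul hfm.1.1]; exact pow_mem hf' _) negSL
      obtain ⟨k, hk⟩ := hQ ⟨_, hi⟩
      have hk' : P.inv ^ p ^ k = 1 := congrArg Subtype.val hk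
      obtain ⟨m, hm⟩ : Odd (p ^ k) := ((Fact.out : p.Prime).odd_of_ne_two (by omega)).pow
      rw [hm, pow_succ, pow_mul, pow_two, P.inv_sq, one_pow, one_mul] at hk'
      exact P.inv_ne_one h2 he.2.1 hk'
  -- the involution is `-1`
  let U : Submodule (ZMod p) V := LinearMap.ker (P.inv.1 - 1)
  have hUinv : ∀ g, g * P.inv = P.inv * g → ∀ v ∈ U, g.1 v ∈ U := by
    intro g hg v hv
    have hv' : P.inv.1 v = v := sub_eq_zero.1 hv
    refine LinearMap.mem_ker.2 (sub_eq_zero.2 ?_)
    show (P.inv * g).1 v = g.1 v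
    rw [← hg]
    show g.1 (P.inv.1 v) = _
    rw [hv']
  have hUb : U = ⊥ := by
    refine (hirr U (fun g hg => hUinv g ?_) (fun g hg => hUinv g (hAi g hg))).resolve_right fun ht => ?_
    · exact Subgroup.mem_centralizer_singleton_iff.1 (hH'H.symm ▸ hg : g ∈ H').2
    · exact P.inv_ne_one h2 he.2.1 (Units.ext (LinearMap.ext fun v =>
        sub_eq_zero.1 (ht ▸ Submodule.mem_top : v ∈ U)))
  have hneg : ∀ v, P.inv.1 v = -v := by
    intro v
    have : P.inv.1 v + v ∈ U := by
      refine LinearMap.mem_ker.2 (sub_eq_zero.2 ?_)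
      show P.inv.1 (P.inv.1 v + v) = P.inv.1 v + v
      rw [map_add, show P.inv.1 (P.inv.1 v) = v from
        LinearMap.congr_fun (congrArg Units.val P.inv_sq) v, add_comm]
    rw [hUb, Submodule.mem_bot] at this
    exact eq_neg_of_add_eq_zero_left this
  have hke : LinearMap.ker e = LinearMap.range e := by
    refine le_antisymm ?_ ?_
    · intro v hv
      refine ⟨f v, ?_⟩
      have h1 := hneg v
      rw [P.inv_val] at h1
      have h4 : v - (pr e f v + pr e f v) = -v := h1
      have h5 : (2 : ZMod p) • v = (2 : ZMod p) • pr e f v := by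
        rw [two_smul, two_smul]
        calc v + v = (pr e f v + pr e f v) + ((v - (pr e f v + pr e f v)) + v) := by abel
          _ = _ := by rw [h4, neg_add_cancel, add_zero]
      have h6 := smul_right_injective V h2 h5
      conv_rhs => rw [h6]
      show e (f v) = e (f v) + f (e v)
      rw [LinearMap.mem_ker.1 hv, map_zero, add_zero]
    · rintro _ ⟨v, rfl⟩
      exact LinearMap.congr_fun he.1.1 v
  have hG : Half H := by
    intro s hs
    obtain ⟨g, hg, hgs⟩ := exists_conj_cls h2 h3 (hone ⟨e, he⟩ ⟨s, hs⟩)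
    obtain ⟨-, hk, hr⟩ := cls_min hs hgs fun e0 => he.2.1 (cjl_eq_zero e0)
    rw [← hk, ← hr, cjl, ker_conj, range_conj, hke]
    ext v
    have gi : ∀ u, g.1 (g⁻¹.1 u) = u := fun u => LinearMap.congr_fun (Units.mul_inv g) u
    have ig : ∀ u, g⁻¹.1 (g.1 u) = u := fun u => LinearMap.congr_fun (Units.inv_mul g) u
    exact ⟨fun h => ⟨_, h, gi v⟩, by rintro ⟨u, hu, rfl⟩; rw [Submodule.mem_comap, ig]; exact hu⟩
  have hodd : Odd (Nat.card A) := by
    rw [← Nat.not_even_iff_odd]
    intro hev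
    have hord : orderOf (⟨P.inv, hiH⟩ : H) = 2 :=
      orderOf_eq_prime (Subtype.ext (by push_cast; rw [pow_two, P.inv_sq]))
        fun e0 => P.inv_ne_one h2 he.2.1 (congrArg Subtype.val e0)
    exact Nat.not_coprime_of_dvd_of_dvd (by norm_num) hev.two_dvd (hord ▸ orderOf_dvd_natCard _) hcop
  obtain ⟨x, y, hx, hy, Q, hAx, hAy⟩ :=
    exists_fixed_pair hp5 h2 h3 hA hcop hsolv hG hodd he hfm P hAe
  exact involves_of_fixed_pair hF hx hy Q hAx hAy

include hF hp5 in
/-- The key theorem. -/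
theorem key : ∀ (n : ℕ) {V : Type u} [AddCommGroup V] [Module (ZMod p) V] [Finite V]
    (H A : Subgroup (LinearMap.GeneralLinearGroup (ZMod p) V)), Nat.card H + Nat.card V ≤ n → KeyAt p F H A := by
  intro n
  induction n using Nat.strong_induction_on with
  | _ n ih =>
  intro V _ _ _ H A hn hA hcop hbad
  by_cases hirr : ∀ W : Submodule (ZMod p) V, (∀ g ∈ H, ∀ v ∈ W, g.1 v ∈ W) →
      (∀ g ∈ A, ∀ v ∈ W, g.1 v ∈ W) → W = ⊥ ∨ W = ⊤
  · exact key_irreducible hF hp5 H A
      (fun H₁ A₁ hlt => ih _ (show Nat.card H₁ + Nat.card V < n by omega) H₁ A₁ le_rfl) hA hcop hbad hirr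
  push Not at hirr
  obtain ⟨W, hWH, hWA, hW0, hW1⟩ := hirr
  have hHS : H ≤ stabW W := fun g hg => mem_stabW (hWH g hg)
  have hAS : A ≤ stabW W := fun g hg => mem_stabW (hWA g hg)
  set H' := H.subgroupOf (stabW W) with hH'
  have hHcard : Nat.card H' = Nat.card H := CfsgLib.Coprime.card_subgroupOf hHS
  have : Finite (V ⧸ W) := Finite.of_surjective _ (Submodule.mkQ_surjective W)
  have hcard := Submodule.card_eq_card_quotient_mul_card W
  have hW2 : 1 < Nat.card W := by
    have := (Submodule.nontrivial_iff_ne_bot).2 hW0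
    exact Finite.one_lt_card
  have hQ2 : 1 < Nat.card (V ⧸ W) := by
    have := Submodule.Quotient.nontrivial_iff.2 hW1
    exact Finite.one_lt_card
  have hWlt : Nat.card W < Nat.card V := by rw [hcard]; nlinarith
  have hQlt : Nat.card (V ⧸ W) < Nat.card V := by rw [hcard]; nlinarith
  obtain ⟨x, hx, hxH, hxO⟩ := hbad
  let g₀ : stabW W := ⟨tt x, hHS hxH⟩
  have hg₀ : g₀ ∈ H' := hxH
  -- one of the two images is bad
  have himg : ∀ {V' : Type u} [AddCommGroup V'] [Module (ZMod p) V'] [Finite V']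
      (ρ : stabW W →* LinearMap.GeneralLinearGroup (ZMod p) V'), ((ρ g₀).1 - 1) * ((ρ g₀).1 - 1) = 0 →
      ¬ Bad (H'.map ρ) → (⟨g₀, hg₀⟩ : H') ∈ (Cfsg.pCore p (H'.map ρ)).comap (ρ.subgroupMap H') := by
    intro V' _ _ _ ρ hsq hnb
    by_contra hmem
    have e : tt ((ρ g₀).1 - 1) = ρ g₀ := Units.ext (by rw [tt_val hsq, add_sub_cancel])
    refine hnb ⟨_, hsq, by rw [e]; exact ⟨g₀, hg₀, rfl⟩, fun hm => hmem ?_⟩
    rw [Subgroup.mem_comap]
    convert hm using 1
    exact Subtype.ext e.symm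
  have hg1 : ∀ v, (tt x).1 v = v + x v := fun v => by rw [tt_val hx]; rfl
  by_cases hb1 : Bad (H'.map (resW W))
  · refine key_of_image (resW W) hHS hAS hA hcop hb1 (ih _ ?_ _ _ le_rfl)
    have := Nat.le_of_dvd Nat.card_pos (H'.card_map_dvd (resW W))
    rw [hH'] at this hHcard
    omega
  by_cases hb2 : Bad (H'.map (quoW W))
  · refine key_of_image (quoW W) hHS hAS hA hcop hb2 (ih _ ?_ _ _ le_rfl)
    have := Nat.le_of_dvd Nat.card_pos (H'.card_map_dvd (quoW W))
    rw [hH'] at this hHcard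
    omega
  exfalso
  have hm1 := himg (resW W) (LinearMap.ext fun v => Subtype.ext (by
    show (tt x).1 ((tt x).1 v.1 - v.1) - ((tt x).1 v.1 - v.1) = 0
    simp only [hg1, add_sub_cancel_left]
    exact LinearMap.congr_fun hx v.1)) hb1
  have hm2 := himg (quoW W) (Submodule.linearMap_qext _ (LinearMap.ext fun v => by
    show Submodule.Quotient.mk (p := W) ((tt x).1 ((tt x).1 v - v) - ((tt x).1 v - v)) = 0
    simp only [hg1, add_sub_cancel_left]
    rw [show x (x v) = 0 from LinearMap.congr_fun hx v, Submodule.Quotient.mk_zero])) hb2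
  set D := (Cfsg.pCore p (H'.map (resW W))).comap ((resW W).subgroupMap H') ⊓
    (Cfsg.pCore p (H'.map (quoW W))).comap ((quoW W).subgroupMap H') with hD
  have hDn : D.Normal := inferInstance
  have hDp : IsPGroup p D := by
    intro d
    obtain ⟨a, ha⟩ := CfsgLib.PCore.pCore_isPGroup ⟨_, (Subgroup.mem_inf.1 d.2).1⟩
    obtain ⟨b, hb⟩ := CfsgLib.PCore.pCore_isPGroup ⟨_, (Subgroup.mem_inf.1 d.2).2⟩
    set e : H' := d.1 ^ p ^ (a + b) with he
    have e1 : resW W e.1 = 1 := by
      have h1 := congrArg (fun z => (z.1.1 : LinearMap.GeneralLinearGroup (ZMod p) W)) ha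
      simp only [Subgroup.coe_pow, OneMemClass.coe_one] at h1
      rw [he, Subgroup.coe_pow, map_pow, pow_add, pow_mul]
      rw [show resW W d.1.1 = ((resW W).subgroupMap H' d.1).1 from rfl, h1, one_pow]
    have e2 : quoW W e.1 = 1 := by
      have h1 := congrArg (fun z => (z.1.1 : LinearMap.GeneralLinearGroup (ZMod p) (V ⧸ W))) hb
      simp only [Subgroup.coe_pow, OneMemClass.coe_one] at h1
      rw [he, Subgroup.coe_pow, map_pow, pow_add, mul_comm, pow_mul]
      rw [show quoW W d.1.1 = ((quoW W).subgroupMap H' d.1).1 from rfl, h1, one_pow]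
    set y : V →ₗ[ZMod p] V := e.1.1.1 - 1 with hy
    have hyW : ∀ v, y v ∈ W := fun v => by
      have := LinearMap.congr_fun (congrArg Units.val e2) (Submodule.Quotient.mk v)
      exact (Submodule.Quotient.eq W).1 this
    have hy0 : y * y = 0 := LinearMap.ext fun v => by
      have := congrArg Subtype.val (LinearMap.congr_fun (congrArg Units.val e1) ⟨y v, hyW v⟩)
      exact sub_eq_zero.2 this
    have hp1 : e.1.1 ^ p = 1 := by
      rw [show e.1.1 = tt y from Units.ext (by rw [tt_val hy0, hy, add_sub_cancel])]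
      exact tt_pow_p hp5 hy0
    refine ⟨a + b + 1, Subtype.ext (Subtype.ext (Subtype.ext ?_))⟩
    rw [he] at hp1
    simp only [Subgroup.coe_pow, OneMemClass.coe_one] at hp1 ⊢
    rw [pow_succ, pow_mul, hp1]
  have hle := CfsgLib.PCore.le_pCore hDn hDp (Subgroup.mem_inf.2 ⟨hm1, hm2⟩)
  refine hxO ?_
  have := (CfsgLib.PCore.map_pCore_equiv (p := p) (Subgroup.subgroupOfEquivOfLe hHS)).le ⟨_, hle, rfl⟩
  exact this

end CfsgLib.QuadFixed
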