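import Mathlib

/-!
In a finite space of endomorphisms containing an identity, closed under squaring and without zero
divisors, only `± x` has the same square as `x`.
-/

set_option autoImplicit false

namespace CfsgLib.QuadFixed

variable {k : Type*} [Field k] {R : Type*} [Ring R] [Algebra k R]

/-- A finite Jordan division space with unit `u`. -/
structure JordanSpace (E : Submodule k R) (u : R) : Prop where
  mem : u ∈ E
  left_unit : ∀ a ∈ E, u * a = a
  right_unit : ∀ a ∈ E, a * u = a
  sq : ∀ a ∈ E, a * a ∈ E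
  regular : ∀ a ∈ E, a ≠ 0 → ∀ z, u * z = z → a * z = 0 → z = 0

namespace JordanSpace

variable {E : Submodule k R} {u : R} (J : JordanSpace E u)
include J

theorem mul_mem (h2 : (2 : k) ≠ 0) {a b : R} (ha : a ∈ E) (hb : b ∈ E) (h : a * b = b * a) :
    a * b ∈ E := by
  have e : (2 : k) • (a * b) = (a + b) * (a + b) - a * a - b * b := by
    rw [two_smul]
    calc a * b + a * b = a * b + b * a := by rw [← h]
      _ = _ := by noncomm_ring
  rw [← Submodule.smul_mem_iff E h2, e]
  exact sub_mem (sub_mem (J.sq _ (add_mem ha hb)) (J.sq _ ha)) (J.sq _ hb)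

theorem eq_zero_of_mul {a b : R} (ha : a ∈ E) (hb : b ∈ E) (h : a * b = 0) : a = 0 ∨ b = 0 := by
  refine or_iff_not_imp_left.2 fun h0 => J.regular a ha h0 b (J.left_unit b hb) h

theorem eq_or_eq_neg {a b : R} (ha : a ∈ E) (hb : b ∈ E) (hc : a * b = b * a)
    (h : a * a = b * b) : a = b ∨ a = -b := by
  have h0 : (a - b) * (a + b) = 0 := by
    calc (a - b) * (a + b) = a * a - b * b + (a * b - b * a) := by noncomm_ring
      _ = 0 := by rw [h, hc, sub_self, sub_self, add_zero]
  rcases J.eq_zero_of_mul (sub_mem ha hb) (add_mem ha hb) h0 with h1 | h1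
  exacts [Or.inl (sub_eq_zero.1 h1), Or.inr (eq_neg_of_add_eq_zero_left h1)]

theorem sq_inj [Finite R] (h2 : (2 : k) ≠ 0) {x y : R} (hx : x ∈ E) (hy : y ∈ E)
    (h : x * x = y * y) : y = x ∨ y = -x := by
  classical
  rcases eq_or_ne x 0 with rfl | hx0
  · rw [mul_zero] at h
    rcases J.eq_zero_of_mul hy hy h.symm with h' | h' <;> exact Or.inl h'
  -- the centre of the centraliser of `x` and `y`
  set Z : Set R := {z | z ∈ E ∧ z * x = x * z ∧ z * y = y * z ∧
    ∀ w ∈ E, w * x = x * w → w * y = y * w → z * w = w * z} with hZ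
  have hZc : ∀ {a b : R}, a ∈ Z → b ∈ Z → a * b = b * a := fun ha hb =>
    ha.2.2.2 _ hb.1 hb.2.1 hb.2.2.1
  have hZm : ∀ {a b : R}, a ∈ Z → b ∈ Z → a * b ∈ Z := by
    intro a b ha hb
    have comm : ∀ w, a * w = w * a → b * w = w * b → a * b * w = w * (a * b) := fun w h1 h2 => by
      rw [mul_assoc, h2, ← mul_assoc, h1, mul_assoc]
    exact ⟨J.mul_mem h2 ha.1 hb.1 (hZc ha hb), comm _ ha.2.1 hb.2.1, comm _ ha.2.2.1 hb.2.2.1,
      fun w h1 h3 h4 => comm _ (ha.2.2.2 w h1 h3 h4) (hb.2.2.2 w h1 h3 h4)⟩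
  have hZa : ∀ {a b : R}, a ∈ Z → b ∈ Z → a + b ∈ Z := by
    intro a b ha hb
    refine ⟨add_mem ha.1 hb.1, ?_, ?_, fun w h1 h3 h4 => ?_⟩ <;> rw [add_mul, mul_add]
    exacts [by rw [ha.2.1, hb.2.1], by rw [ha.2.2.1, hb.2.2.1],
      by rw [ha.2.2.2 w h1 h3 h4, hb.2.2.2 w h1 h3 h4]]
  have hZn : ∀ {a : R}, a ∈ Z → -a ∈ Z := fun {a} ha => by
    refine ⟨neg_mem ha.1, ?_, ?_, fun w h1 h3 h4 => ?_⟩ <;> rw [neg_mul, mul_neg]
    exacts [by rw [ha.2.1], by rw [ha.2.2.1], by rw [ha.2.2.2 w h1 h3 h4]]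
  have hu : u ∈ Z := ⟨J.mem, by rw [J.left_unit x hx, J.right_unit x hx],
    by rw [J.left_unit y hy, J.right_unit y hy],
    fun w hw _ _ => by rw [J.left_unit w hw, J.right_unit w hw]⟩
  set c := x * x with hc
  set m := x * y + y * x with hm
  have hcx : c * x = x * c := by rw [hc, mul_assoc]
  have hcy : c * y = y * c := by rw [h, mul_assoc]
  have hcZ : c ∈ Z := ⟨J.sq x hx, hcx, hcy, fun w _ h1 _ => by rw [hc, mul_assoc, ← h1, ← mul_assoc, ← h1, mul_assoc]⟩
  have hmE : m ∈ E := by
    have e : m = (x + y) * (x + y) - x * x - y * y := by rw [hm]; noncomm_ring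
    rw [e]
    exact sub_mem (sub_mem (J.sq _ (add_mem hx hy)) (J.sq _ hx)) (J.sq _ hy)
  have hmZ : m ∈ Z := by
    refine ⟨hmE, ?_, ?_, fun w _ h1 h3 => ?_⟩
    · calc m * x = x * y * x + y * (x * x) := by rw [hm]; noncomm_ring
        _ = x * y * x + (x * x) * y := by rw [← hc, hcy]
        _ = x * m := by rw [hm]; noncomm_ring
    · calc m * y = x * (y * y) + y * x * y := by rw [hm]; noncomm_ring
        _ = (y * y) * x + y * x * y := by rw [← h, hcx]
        _ = y * m := by rw [hm]; noncomm_ring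
    · calc m * w = x * (y * w) + y * (x * w) := by rw [hm]; noncomm_ring
        _ = x * (w * y) + y * (w * x) := by rw [h3, h1]
        _ = (x * w) * y + (y * w) * x := by noncomm_ring
        _ = (w * x) * y + (w * y) * x := by rw [h1, h3]
        _ = w * m := by rw [hm]; noncomm_ring
  have hc0 : c ≠ 0 := fun h0 => hx0 ((J.eq_zero_of_mul hx hx h0).elim id id)
  -- `α² = c β² + m β + c` has a solution in `Z`
  obtain ⟨α, hα, β, hβ, heq⟩ : ∃ α ∈ Z, ∃ β ∈ Z, α * α = c * (β * β) + m * β + c := by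
    have : Fintype R := Fintype.ofFinite R
    set F : Finset R := Z.toFinset with hF
    have mF : ∀ {a}, a ∈ F ↔ a ∈ Z := Set.mem_toFinset
    let f1 : R → R := fun a => a * a
    let f2 : R → R := fun a => c * (a * a) + m * a + c
    have hf1 : ∀ a ∈ F.image f1, (F.filter fun b => f1 b = a).card ≤ 2 := by
      intro a ha
      obtain ⟨b, hb, rfl⟩ := Finset.mem_image.1 ha
      refine (Finset.card_le_card (t := ({b, -b} : Finset R)) fun b' hb' => ?_).trans Finset.card_le_two
      obtain ⟨h1, h3⟩ := Finset.mem_filter.1 hb'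
      simp only [Finset.mem_insert, Finset.mem_singleton]
      exact J.eq_or_eq_neg (mF.1 h1).1 (mF.1 hb).1 (hZc (mF.1 h1) (mF.1 hb)) h3
    have hf2 : ∀ a ∈ F.image f2, (F.filter fun b => f2 b = a).card ≤ 2 := by
      intro a ha
      obtain ⟨b, hb, rfl⟩ := Finset.mem_image.1 ha
      by_contra hgt
      push Not at hgt
      obtain ⟨b', hb', b'', hb'', hne'⟩ := Finset.one_lt_card.1 (show
        1 < ((F.filter fun b' => f2 b' = f2 b).erase b).card by
          rw [Finset.card_erase_of_mem (s := F.filter fun b' => f2 b' = f2 b) (Finset.mem_filter.2 ⟨hb, rfl⟩)]; omega)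
      have key : ∀ d ∈ (F.filter fun b' => f2 b' = f2 b).erase b, c * (d + b) + m = 0 := by
        intro d hd
        obtain ⟨hdb, hd⟩ := Finset.mem_erase.1 hd
        obtain ⟨hd1, hd2⟩ := Finset.mem_filter.1 hd
        have hdZ := mF.1 hd1
        have hbZ := mF.1 hb
        have h0 : (c * (d + b) + m) * (d - b) = 0 := by
          calc (c * (d + b) + m) * (d - b)
              = f2 d - f2 b + c * (b * d - d * b) := by simp only [f2]; noncomm_ring
            _ = 0 := by rw [hd2, hZc hbZ hdZ]; simp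
        refine ((J.eq_zero_of_mul ?_ (sub_mem hdZ.1 hbZ.1) h0)).resolve_right (sub_ne_zero.2 hdb)
        exact (hZa (hZm hcZ (hZa hdZ hbZ)) hmZ).1
      have h1 := key _ hb'
      have h3 := key _ hb''
      have h4 : c * (b'' - b') = 0 := by
        calc c * (b'' - b') = (c * (b'' + b) + m) - (c * (b' + b) + m) := by noncomm_ring
          _ = 0 := by rw [h1, h3, sub_zero]
      have hZ' : ∀ {d}, d ∈ (F.filter fun b' => f2 b' = f2 b).erase b → d ∈ E := fun hd =>
        (mF.1 (Finset.mem_filter.1 (Finset.mem_erase.1 hd).2).1).1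
      exact hne' (sub_eq_zero.1 ((J.eq_zero_of_mul hcZ.1 (sub_mem (hZ' hb'') (hZ' hb')) h4).resolve_left hc0)).symm
    have hodd : Odd F.card := by
      -- negation fixes only zero
      have h0 : (0 : R) ∈ F := mF.2 (by simpa using hZa hu (hZn hu))
      have hE : Even (F.erase 0).card := by
        refine ZMod.natCast_eq_zero_iff_even.1 ?_
        rw [Finset.cast_card]
        refine Finset.sum_involution (fun a _ => -a) (fun a _ => by decide)
          (fun a ha _ e => (Finset.mem_erase.1 ha).1 ?_)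
          (fun a ha => Finset.mem_erase.2 ⟨neg_ne_zero.2 (Finset.mem_erase.1 ha).1,
            mF.2 (hZn (mF.1 (Finset.mem_erase.1 ha).2))⟩) (fun a _ => neg_neg a)
        have : (2 : k) • a = 0 := by
          rw [two_smul]
          calc a + a = a + -a := by rw [e]
            _ = 0 := add_neg_cancel a
        exact (smul_eq_zero.1 this).resolve_left h2
      rw [← Finset.card_erase_add_one h0]
      exact hE.add_one
    have c1 := Finset.card_le_mul_card_image F 2 hf1
    have c2 := Finset.card_le_mul_card_image F 2 hf2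
    obtain ⟨a, ha⟩ : ((F.image f1) ∩ (F.image f2)).Nonempty := by
      rw [← Finset.card_pos]
      have s1 : F.image f1 ∪ F.image f2 ⊆ F := by
        refine Finset.union_subset ?_ ?_ <;> intro a ha <;> obtain ⟨b, hb, rfl⟩ := Finset.mem_image.1 ha <;>
          refine mF.2 ?_
        · exact hZm (mF.1 hb) (mF.1 hb)
        · exact hZa (hZa (hZm hcZ (hZm (mF.1 hb) (mF.1 hb))) (hZm hmZ (mF.1 hb))) hcZ
      have := Finset.card_union_add_card_inter (F.image f1) (F.image f2)
      have := Finset.card_le_card s1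
      obtain ⟨t, ht⟩ := hodd
      omega
    obtain ⟨h1, h3⟩ := Finset.mem_inter.1 ha
    obtain ⟨α, hα, rfl⟩ := Finset.mem_image.1 h1
    obtain ⟨β, hβ, e⟩ := Finset.mem_image.1 h3
    exact ⟨α, mF.1 hα, β, mF.1 hβ, e.symm⟩
  -- `z = β x + y` squares to `α²`
  have hzE : β * x + y ∈ E := add_mem (J.mul_mem h2 hβ.1 hx hβ.2.1) hy
  have hzz : (β * x + y) * (β * x + y) = α * α := by
    calc (β * x + y) * (β * x + y) = β * (x * β) * x + β * (x * y) + (y * β) * x + y * y := by noncomm_ring
      _ = β * (β * x) * x + β * (x * y) + (β * y) * x + y * y := by rw [← hβ.2.1, ← hβ.2.2.1]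
      _ = (β * β) * c + β * m + c := by rw [hm, ← h, hc]; noncomm_ring
      _ = _ := by rw [heq, hZc hcZ (hZm hβ hβ), hZc hmZ hβ]
  have hαz : α * (β * x + y) = (β * x + y) * α := by
    rw [mul_add, add_mul, ← mul_assoc, hZc hα hβ, mul_assoc, hα.2.1, hα.2.2.1, mul_assoc]
  have hxy : x * y = y * x := by
    rcases J.eq_or_eq_neg hzE hα.1 hαz.symm hzz with e | e
    · have ey : y = α - β * x := by rw [← e]; abel
      rw [ey, mul_sub, sub_mul, ← hα.2.1, ← mul_assoc, ← hβ.2.1]
    · have ey : y = -α - β * x := by rw [← e]; abel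
      rw [ey, mul_sub, sub_mul, mul_neg, neg_mul, ← hα.2.1, ← mul_assoc, ← hβ.2.1]
  exact J.eq_or_eq_neg hy hx hxy.symm h.symm

end JordanSpace

end CfsgLib.QuadFixed
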