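import Cfsg.Agent.Lib.QuadFixed.Pair
import Cfsg.Agent.Lib.QuadFixed.Jordan
import Cfsg.Agent.Lib.Quadratic.Root

/-!
The classes of least elements of a finite linear group over `𝔽_p` when the involutions of the pairs are
`-1`: opposite classes, transitivity of a class on the classes opposite to it, squares.
-/

set_option autoImplicit false

namespace CfsgLib.QuadFixed

open CfsgLib.Quadratic

section General

variable {k : Type*} [Field k] {M : Type*} [AddCommGroup M] [Module k M]
variable {G : Subgroup (LinearMap.GeneralLinearGroup k M)}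

/-- Conjugation of linear maps. -/
def cjl (g : LinearMap.GeneralLinearGroup k M) (x : M →ₗ[k] M) : M →ₗ[k] M := g.1 * x * g⁻¹.1

theorem cjl_mul (g h : LinearMap.GeneralLinearGroup k M) (x : M →ₗ[k] M) :
    cjl (g * h) x = cjl g (cjl h x) := by
  simp only [cjl, Units.val_mul, _root_.mul_inv_rev, mul_assoc]

theorem cjl_one (x : M →ₗ[k] M) : cjl 1 x = x := by simp [cjl]

theorem cjl_inv_cjl (g : LinearMap.GeneralLinearGroup k M) (x : M →ₗ[k] M) : cjl g⁻¹ (cjl g x) = x := by
  rw [← cjl_mul, inv_mul_cancel, cjl_one]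

theorem cjl_cjl_inv (g : LinearMap.GeneralLinearGroup k M) (x : M →ₗ[k] M) : cjl g (cjl g⁻¹ x) = x := by
  rw [← cjl_mul, mul_inv_cancel, cjl_one]

theorem cjl_mul' (g : LinearMap.GeneralLinearGroup k M) (x y : M →ₗ[k] M) :
    cjl g (x * y) = cjl g x * cjl g y := by
  rw [cjl, cjl, cjl, show g.1 * x * g⁻¹.1 * (g.1 * y * g⁻¹.1) = g.1 * x * (g⁻¹.1 * g.1) * y * g⁻¹.1 by
    noncomm_ring, Units.inv_mul, mul_one, ← mul_assoc]

theorem cjl_zero (g : LinearMap.GeneralLinearGroup k M) : cjl g (0 : M →ₗ[k] M) = 0 := by simp [cjl]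

theorem cjl_eq_zero {g : LinearMap.GeneralLinearGroup k M} {x : M →ₗ[k] M} (h : cjl g x = 0) : x = 0 := by
  rw [← cjl_inv_cjl g x, h, cjl_zero]

theorem Pair.cjl {e f : M →ₗ[k] M} (P : Pair e f) (g : LinearMap.GeneralLinearGroup k M) :
    Pair (cjl g e) (cjl g f) where
  ee := by rw [← cjl_mul', P.ee, cjl_zero]
  ff := by rw [← cjl_mul', P.ff, cjl_zero]
  efe := by rw [← cjl_mul', ← cjl_mul', P.efe]
  fef := by rw [← cjl_mul', ← cjl_mul', P.fef]

theorem tt_cjl (g : LinearMap.GeneralLinearGroup k M) {x : M →ₗ[k] M} (hx : x * x = 0) :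
    g * tt x * g⁻¹ = tt (cjl g x) := tt_conj g hx

theorem tt_mul_eq_iff {g : LinearMap.GeneralLinearGroup k M} {x : M →ₗ[k] M} (hx : x * x = 0) :
    g * tt x = tt x * g ↔ cjl g x = x := by
  rw [← mul_inv_eq_iff_eq_mul, tt_cjl g hx]
  refine ⟨fun h => tt_inj (conj_sq g hx) hx h, fun h => by rw [h]⟩

variable [FiniteDimensional k M]

theorem fam_cjl {g : LinearMap.GeneralLinearGroup k M} (hg : ∀ h ∈ G, g * h * g⁻¹ ∈ G) {x : M →ₗ[k] M}
    (hx : Fam G x) : Fam G (cjl g x) := by
  refine ⟨conj_sq g hx.1, fun c => ?_⟩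
  rw [show c • cjl g x = cjl g (c • x) by rw [cjl, cjl, mul_smul_comm, smul_mul_assoc],
    ← tt_cjl g (smul_sq hx.1 c)]
  exact hg _ (hx.2 c)

theorem isMin_cjl {g : LinearMap.GeneralLinearGroup k M} (hg : ∀ h ∈ G, g * h * g⁻¹ ∈ G) {x : M →ₗ[k] M}
    (hx : IsMin G x) : IsMin G (cjl g x) :=
  ⟨fam_cjl hg hx.1, fun e => hx.2.1 (cjl_eq_zero e),
    fun y hy hy0 => (rk_conj g x).le.trans (hx.2.2 y hy hy0)⟩

theorem cls_cjl {g : LinearMap.GeneralLinearGroup k M} (hg : ∀ h ∈ G, g * h * g⁻¹ ∈ G)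
    {s x : M →ₗ[k] M} (hx : x ∈ cls G s) : cjl g x ∈ cls G (cjl g s) := by
  refine ⟨fam_cjl hg hx.1, ?_, ?_⟩
  · rw [cjl, cjl, ker_conj, ker_conj]; exact Submodule.comap_mono hx.2.1
  · rw [cjl, cjl, range_conj, range_conj, ker_conj]
    rintro _ ⟨u, hu, rfl⟩
    obtain ⟨h1, h2⟩ := hx.2.2 hu
    refine ⟨⟨u, h1, rfl⟩, ?_⟩
    show g⁻¹.1 (g.1 u) ∈ LinearMap.ker s
    rw [← mul_apply' g⁻¹.1 g.1, Units.inv_mul]; exact h2

/-- `g` sends the class of `s` to the class of `t`. -/
theorem cls_cjl_eq {g : LinearMap.GeneralLinearGroup k M} (hg : ∀ h ∈ G, g * h * g⁻¹ ∈ G)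
    {s t : M →ₗ[k] M} (hs : IsMin G s) (ht : IsMin G t) (h : cjl g s ∈ cls G t) :
    ∀ x ∈ cls G s, cjl g x ∈ cls G t := fun x hx => by
  rw [← cls_eq ht h fun e => hs.2.1 (cjl_eq_zero e)]
  exact cls_cjl hg hx

theorem exists_pair (h2 : (2 : k) ≠ 0) (h3 : Nat.card k ≠ 3) {s t : M →ₗ[k] M} (hs : IsMin G s)
    (ht : IsMin G t) (hst : s * t * s ≠ 0) : ∃ y, y ∈ cls G t ∧ IsMin G y ∧ Pair s y := by
  obtain ⟨y, hy, e1, e2, e3⟩ := exists_partner h2 h3 hs ht hst
  exact ⟨y, hy, (cls_min ht hy fun e => hs.2.1 (by rw [← e1, e]; simp)).1, ⟨hs.1.1, e3, e1, e2⟩⟩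

/-- All least elements have kernel equal to range. -/
def Half (G : Subgroup (LinearMap.GeneralLinearGroup k M)) : Prop :=
  ∀ s, IsMin G s → LinearMap.ker s = LinearMap.range s

theorem Half.mul_eq_zero (hG : Half G) {s z : M →ₗ[k] M} (hs : IsMin G s) :
    s * z = 0 ↔ LinearMap.range z ≤ LinearMap.range s := by
  rw [← hG s hs]
  exact ⟨fun h => by rintro _ ⟨v, rfl⟩; exact LinearMap.congr_fun h v,
    fun h => LinearMap.ext fun v => h ⟨v, rfl⟩⟩

theorem Half.pr_eq_one (hG : Half G) {e f : M →ₗ[k] M} (he : IsMin G e) (P : Pair e f) :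
    pr e f = 1 := by
  refine LinearMap.ext fun v => ?_
  have h1 : v - f (e v) ∈ LinearMap.range e := by
    rw [← hG e he, LinearMap.mem_ker, map_sub, sub_eq_zero]
    exact (LinearMap.congr_fun P.efe v).symm
  obtain ⟨u, hu⟩ := h1
  have h4 : e (f (e u)) = e u := LinearMap.congr_fun P.efe u
  have h5 : e (f (f (e v))) = 0 := by rw [show f (f (e v)) = 0 from LinearMap.congr_fun P.ff (e v), map_zero]
  rw [hu, map_sub, map_sub, h5, sub_zero] at h4
  show e (f v) + f (e v) = v
  rw [h4, sub_add_cancel]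

/-- In the presence of `Half`, an element acting unipotently with `e` but not with `f` has the class
of `e`. -/
theorem Half.mem_cls (hG : Half G) (h2 : (2 : k) ≠ 0) (h3 : Nat.card k ≠ 3) {e f t : M →ₗ[k] M}
    (he : IsMin G e) (hfm : IsMin G f) (ht : IsMin G t) (P : Pair e f) (het : e * t * e = 0)
    (hft : f * t * f ≠ 0) : t ∈ cls G e := by
  have hone := hG.pr_eq_one he P
  obtain ⟨c, hc0, hc1⟩ := RingSL2.exists_sq_ne_one (k := k) h2 h3
  set p := e * f with hp
  set q := f * e with hq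
  have hpq : p + q = 1 := hone
  have pp : p * p = p := by rw [hp, ← mul_assoc, P.efe]
  have qq : q * q = q := by rw [hq, ← mul_assoc, P.fef]
  have pq : p * q = 0 := by
    rw [hp, hq, show e * f * (f * e) = e * (f * f) * e by noncomm_ring, P.ff, mul_zero, zero_mul]
  have qp : q * p = 0 := by
    rw [hp, hq, show f * e * (e * f) = f * (e * e) * f by noncomm_ring, P.ee, mul_zero, zero_mul]
  have hz : q * t * p = 0 := by
    rw [hp, hq, show f * e * t * (e * f) = f * (e * t * e) * f by noncomm_ring, het, mul_zero, zero_mul]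
  set α := p * t * p with hα
  set u := p * t * q with hu
  set δ := q * t * q with hδ
  have hdec : t = α + u + δ := by
    calc t = (p + q) * t * (p + q) := by rw [hpq, one_mul, mul_one]
      _ = α + u + δ + q * t * p := by rw [hα, hu, hδ]; noncomm_ring
      _ = _ := by rw [hz, add_zero]
  have m1 : α * α + 0 = 0 := by
    calc α * α + 0 = p * t * (p * p) * t * p + p * t * q * (q * t * p) := by
          rw [hz, mul_zero, hα]; noncomm_ring
      _ = p * t * p * t * p + p * t * (q * q) * t * p := by rw [pp]; noncomm_ring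
      _ = p * t * (p + q) * t * p := by rw [qq]; noncomm_ring
      _ = 0 := by rw [hpq, mul_one, mul_assoc p t t, ht.1.1, mul_zero, zero_mul]
  rw [add_zero] at m1
  have m2 : α * u + u * δ = 0 := by
    calc α * u + u * δ = p * t * (p * p) * t * q + p * t * (q * q) * t * q := by
          rw [hα, hu, hδ]; noncomm_ring
      _ = p * t * (p + q) * t * q := by rw [pp, qq]; noncomm_ring
      _ = 0 := by rw [hpq, mul_one, mul_assoc p t t, ht.1.1, mul_zero, zero_mul]
  have m3 : δ * δ = 0 := by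
    have h := congrArg (fun z => q * z * q) ht.1.1
    simp only [mul_zero, zero_mul] at h
    calc δ * δ = q * t * (q * q) * t * q + (q * t * p) * (p * t * q) := by
          rw [hz, zero_mul, add_zero, hδ]; noncomm_ring
      _ = q * t * (q * q) * t * q + q * t * (p * p) * t * q := by noncomm_ring
      _ = q * t * (p + q) * t * q := by rw [pp, qq]; noncomm_ring
      _ = 0 := by rw [hpq, mul_one, mul_assoc q t t, ht.1.1, mul_zero, zero_mul]
  have z1 : u * α = 0 := by
    rw [hu, hα, show p * t * q * (p * t * p) = p * t * (q * p) * t * p by noncomm_ring, qp]; simp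
  have z2 : u * u = 0 := by
    rw [hu, show p * t * q * (p * t * q) = p * t * (q * p) * t * q by noncomm_ring, qp]; simp
  have z3 : α * δ = 0 := by
    rw [hα, hδ, show p * t * p * (q * t * q) = p * t * (p * q) * t * q by noncomm_ring, pq]; simp
  have z4 : δ * α = 0 := by
    rw [hα, hδ, show q * t * q * (p * t * p) = q * t * (q * p) * t * p by noncomm_ring, qp]; simp
  have z5 : δ * u = 0 := by
    rw [hu, hδ, show q * t * q * (p * t * q) = q * t * (q * p) * t * q by noncomm_ring, qp]; simp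
  have z6 : u * δ = -(α * u) := eq_neg_of_add_eq_zero_right m2
  have prod : ∀ a b : k, (α + a • u + δ) * (α + b • u + δ) = (b - a) • (α * u) := by
    intro a b
    simp only [add_mul, mul_add, smul_mul_assoc, mul_smul_comm, m1, m3, z1, z2, z3, z4, z5,
      z6, smul_zero, smul_neg, sub_smul]
    abel
  -- the torus conjugate
  obtain ⟨h, hhdef⟩ : ∃ h, h =
      P.sl (diagSL (Units.mk0 c hc0)) := ⟨_, rfl⟩
  have hhG : h ∈ G := hhdef ▸ P.sl_mem he.1 hfm.1 _
  have hh : h.1 = c • p + c⁻¹ • q := by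
    rw [hhdef, P.sl_val, hone, sub_self, zero_add]; simp [emb, diagSL, hp, hq]
  have hh' : h⁻¹.1 = c⁻¹ • p + c • q := by
    rw [hhdef, ← map_inv, P.sl_val, hone, sub_self, zero_add]
    simp only [emb, RingSL2.inv_00, RingSL2.inv_01, RingSL2.inv_10, RingSL2.inv_11]
    simp [diagSL, hp, hq]
  have ht'm : IsMin G (α + (c * c) • u + δ) := by
    have h1 := ht.conj hhG
    rw [hh, hh'] at h1
    have e1 : (c • p + c⁻¹ • q) * t * (c⁻¹ • p + c • q) = α + (c * c) • u + δ := by
      simp only [add_mul, mul_add, smul_mul_assoc, mul_smul_comm, smul_smul, hz, ← hα, ← hu, ← hδ,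
        smul_zero, smul_add, add_zero, inv_mul_cancel₀ hc0, mul_inv_cancel₀ hc0, one_smul]
      abel
    rwa [e1] at h1
  set t' := α + (c * c) • u + δ with ht'
  have htt' : t * t' = (c * c - 1) • (α * u) := by
    rw [ht', show t = α + (1 : k) • u + δ by rw [one_smul]; exact hdec, prod]
  have ht't : t' * t = (1 - c * c) • (α * u) := by
    rw [ht', show t = α + (1 : k) • u + δ by rw [one_smul]; exact hdec, prod]
  have au1 : α * u * (α + u + δ) = 0 := by
    simp [mul_add, mul_assoc, z1, z2, z6, ← mul_assoc α α, m1]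
  have au2 : α * u * t' = 0 := by
    simp [ht', mul_add, mul_assoc, z1, z2, z6, ← mul_assoc α α, m1]
  have hne : (c * c - 1) ≠ 0 := sub_ne_zero.2 hc1
  have hw : Fam G (α * u) := by
    have h1 := Fam.comm ht.1 ht'm.1 (by rw [htt', smul_mul_assoc, hdec, au1, smul_zero])
      (by rw [ht't, smul_mul_assoc, au2, smul_zero])
    rw [htt', ht't, ← sub_smul] at h1
    have h4 : c * c - 1 - (1 - c * c) ≠ 0 := by
      rw [show c * c - 1 - (1 - c * c) = 2 * (c * c - 1) by ring]
      exact mul_ne_zero h2 hne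
    have := h1.smul (c * c - 1 - (1 - c * c))⁻¹
    rwa [smul_smul, inv_mul_cancel₀ h4, one_smul] at this
  have hker : ∀ z : M →ₗ[k] M, (∀ v, z (e v) = 0) → LinearMap.ker e ≤ LinearMap.ker z := by
    intro z h v hv
    rw [hG e he] at hv
    obtain ⟨w, rfl⟩ := hv
    exact h w
  have hrg : ∀ z : M →ₗ[k] M, LinearMap.range (p * z) ≤ LinearMap.range e ⊓ LinearMap.ker e := by
    rintro z _ ⟨v, rfl⟩
    exact ⟨⟨f (z v), rfl⟩, by rw [hG e he]; exact ⟨f (z v), rfl⟩⟩
  have qe : q * e = 0 := by rw [hq, mul_assoc, P.ee, mul_zero]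
  have ue : u * e = 0 := by rw [hu, mul_assoc, qe, mul_zero]
  have pe : p * e = e := P.efe
  have hau : α * u = 0 := by
    by_contra hau
    have hmem : α * u ∈ cls G e := ⟨hw, hker _ (fun v => LinearMap.congr_fun
      (show α * u * e = 0 by rw [mul_assoc, ue, mul_zero]) v), by rw [hα]; simp only [mul_assoc]; exact hrg _⟩
    obtain ⟨-, -, hr⟩ := cls_min he hmem hau
    have hαe : α * e = 0 := LinearMap.ext fun v => by
      obtain ⟨w, hw⟩ := hr.ge ⟨v, rfl⟩
      show α (e v) = 0
      rw [← hw]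
      exact LinearMap.congr_fun (show α * (α * u) = 0 by rw [← mul_assoc, m1, zero_mul]) w
    have hα0 : α = 0 := by
      calc α = α * p := by rw [hα, mul_assoc (p * t) p p, pp]
        _ = 0 := by rw [hp, ← mul_assoc, hαe, zero_mul]
    exact hau (by rw [hα0, zero_mul])
  have hfu : Fam G u := by
    have h1 := Fam.add ht'm.1 (ht.1.smul (-1))
      (by rw [mul_smul_comm, ht't, hau, smul_zero, smul_zero])
      (by rw [smul_mul_assoc, htt', hau, smul_zero, smul_zero])
    have e1 : t' + (-1 : k) • t = (c * c - 1) • u := by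
      rw [ht', hdec, neg_one_smul, sub_smul, one_smul]; abel
    rw [e1] at h1
    have := h1.smul (c * c - 1)⁻¹
    rwa [smul_smul, inv_mul_cancel₀ hne, one_smul] at this
  have hu0 : u ≠ 0 := by
    intro h0
    apply hft
    calc f * t * f = f * e * f * t * (f * e * f) := by rw [P.fef]
      _ = f * u * f := by rw [hu, hp, hq]; noncomm_ring
      _ = 0 := by rw [h0, mul_zero, zero_mul]
  have humem : u ∈ cls G e := ⟨hfu, hker _ (fun v => LinearMap.congr_fun ue v), by
    rw [hu]; simp only [mul_assoc]; exact hrg _⟩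
  obtain ⟨-, hk, hr⟩ := cls_min he humem hu0
  have hα0 : α = 0 := by
    have hαe : α * e = 0 := LinearMap.ext fun v => by
      obtain ⟨w, hw⟩ := hr.ge ⟨v, rfl⟩
      show α (e v) = 0
      rw [← hw]
      exact LinearMap.congr_fun hau w
    calc α = α * p := by rw [hα, mul_assoc (p * t) p p, pp]
      _ = 0 := by rw [hp, ← mul_assoc, hαe, zero_mul]
  have hδ0 : δ = 0 := by
    have h1 : u * δ = 0 := by rw [z6, hau, neg_zero]
    refine LinearMap.ext fun v => ?_
    have h4 : δ v ∈ LinearMap.range e := by rw [← hG e he, ← hk]; exact LinearMap.congr_fun h1 v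
    obtain ⟨w, hw⟩ := h4
    calc δ v = q (δ v) := (LinearMap.congr_fun (show q * δ = δ by rw [hδ, ← mul_assoc q (q * t) q, ← mul_assoc q q t, qq]) v).symm
      _ = 0 := by rw [← hw]; exact LinearMap.congr_fun qe w
  rw [hdec, hα0, hδ0, zero_add, add_zero]
  exact humem

end General

section Prime

variable {p : ℕ} [Fact p.Prime] {V : Type*} [AddCommGroup V] [Module (ZMod p) V] [Finite V]
variable {G : Subgroup (LinearMap.GeneralLinearGroup (ZMod p) V)}

theorem tt_nsmul {x : V →ₗ[ZMod p] V} (hx : x * x = 0) : ∀ n : ℕ, tt ((n : ZMod p) • x) = tt x ^ n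
  | 0 => by rw [Nat.cast_zero, zero_smul, tt_zero, pow_zero]
  | n + 1 => by
    rw [Nat.cast_succ, add_smul, one_smul, tt_add (smul_sq hx _) hx (by rw [smul_mul_assoc, hx, smul_zero])
      (by rw [mul_smul_comm, hx, smul_zero]), tt_nsmul hx n, pow_succ]

theorem tt_smul {x : V →ₗ[ZMod p] V} (hx : x * x = 0) (c : ZMod p) : tt (c • x) = tt x ^ c.val := by
  rw [← tt_nsmul hx, ZMod.natCast_val, ZMod.cast_id]

theorem fam_of_mem {x : V →ₗ[ZMod p] V} (hx : x * x = 0) (h : tt x ∈ G) : Fam G x :=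
  ⟨hx, fun c => by rw [tt_smul hx c]; exact pow_mem h _⟩

instance finite_end : Finite (V →ₗ[ZMod p] V) :=
  Finite.of_injective _ DFunLike.coe_injective

variable (hG : Half G) (h2 : (2 : ZMod p) ≠ 0) (h3 : Nat.card (ZMod p) ≠ 3)
include hG h2 h3

omit h3 in
/-- The class of `e` moves `f` to any other partner of `e`. -/
theorem exists_translation (hp5 : 5 ≤ p) {e f y : V →ₗ[ZMod p] V} (he : IsMin G e) (hf : Fam G f)
    (hy : Fam G y) (P : Pair e f) (Q : Pair e y) : ∃ x ∈ cls G e, cjl (tt x) f = y := by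
  have hP := hG.pr_eq_one he P
  have hQ := hG.pr_eq_one he Q
  set x := e * f * y * e with hx
  have xx : x * x = 0 := by
    rw [hx, show e * f * y * e * (e * f * y * e) = e * f * y * (e * e) * f * y * e by noncomm_ring,
      P.ee]; simp
  have ex : e * x = 0 := by rw [hx, show e * (e * f * y * e) = e * e * f * y * e by noncomm_ring, P.ee]; simp
  have xe : x * e = 0 := by rw [hx, mul_assoc, P.ee, mul_zero]
  have hfyf : f * e * y * (e * f) = f := by
    rw [show f * e * y * (e * f) = f * (e * y * e) * f by noncomm_ring, Q.efe, P.fef]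
  set a := e * f * y * (e * f) with ha
  set u := e * f * y * (f * e) with hu
  set d := f * e * y * (f * e) with hd
  have hdec : y = a + u + d + f := by
    calc y = pr e f * y * pr e f := by rw [hP, one_mul, mul_one]
      _ = a + u + d + f := by
        conv_rhs => rw [← hfyf]
        rw [ha, hu, hd, pr]; noncomm_ring
  have xf : x * f = a := by rw [hx, ha]; noncomm_ring
  have hffe : f * (f * e) = 0 := by rw [← mul_assoc, P.ff, zero_mul]
  have hfeef : f * e * (e * f) = 0 := by
    rw [show f * e * (e * f) = f * (e * e) * f by noncomm_ring, P.ee, mul_zero, zero_mul]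
  have y1 : d * f + f * a = 0 := by
    calc d * f + f * a = f * e * y * (f * e) * (f * e * y * (e * f)) + f * e * y * (e * f) * a := by
          rw [hfyf]
      _ = f * e * y * ((f * e) * (f * e)) * y * (e * f) + f * e * y * ((e * f) * (e * f)) * y * (e * f) := by
          rw [ha]; noncomm_ring
      _ = f * e * y * pr e f * y * (e * f) := by
          rw [show f * e * (f * e) = f * e by rw [← mul_assoc, P.fef],
            show e * f * (e * f) = e * f by rw [← mul_assoc, P.efe], pr]; noncomm_ring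
      _ = 0 := by rw [hP, mul_one, mul_assoc (f * e) y y, Q.ff, mul_zero, zero_mul]
  have y2 : a * a + u * f = 0 := by
    calc a * a + u * f = a * a + u * (f * e * y * (e * f)) := by rw [hfyf]
      _ = e * f * y * ((e * f) * (e * f)) * y * (e * f) + e * f * y * ((f * e) * (f * e)) * y * (e * f) := by
          rw [ha, hu]; noncomm_ring
      _ = e * f * y * pr e f * y * (e * f) := by
          rw [show f * e * (f * e) = f * e by rw [← mul_assoc, P.fef],
            show e * f * (e * f) = e * f by rw [← mul_assoc, P.efe], pr]; noncomm_ring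
      _ = 0 := by rw [hP, mul_one, mul_assoc (e * f) y y, Q.ff, mul_zero, zero_mul]
  have ae : a * e = x := by
    rw [ha, hx, show e * f * y * (e * f) * e = e * f * y * (e * f * e) by noncomm_ring, P.efe]
  have fx : f * x = -d := by
    calc f * x = f * a * e := by rw [mul_assoc f a e, ae]
      _ = -(d * f) * e := by rw [eq_neg_of_add_eq_zero_right y1]
      _ = -(d * (f * e)) := by rw [neg_mul, mul_assoc]
      _ = -d := by
        rw [hd, mul_assoc (f * e * y) (f * e) (f * e), show f * e * (f * e) = f * e by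
          rw [← mul_assoc, P.fef]]
  have xfx : x * f * x = -u := by
    calc x * f * x = a * a * e := by rw [xf, mul_assoc a a e, ae]
      _ = -(u * f) * e := by rw [eq_neg_of_add_eq_zero_left y2]
      _ = -(u * (f * e)) := by rw [neg_mul, mul_assoc]
      _ = -u := by
        rw [hu, mul_assoc (e * f * y) (f * e) (f * e), show f * e * (f * e) = f * e by
          rw [← mul_assoc, P.fef]]
  have hy' : cjl (tt x) f = y := by
    rw [cjl, tt_inv_val xx, tt_val xx]
    calc (1 + x) * f * (1 - x) = f + x * f - f * x - x * f * x := by noncomm_ring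
      _ = y := by rw [xfx, fx, xf, hdec]; abel
  -- `1 + x ∈ G`
  set Y := f * x * f with hY
  have YY : Y * Y = 0 := by
    rw [hY, show f * x * f * (f * x * f) = f * x * (f * f) * x * f by noncomm_ring, P.ff]; simp
  have hX : Fam G Y := by
    have key : ∀ c : ZMod p, c ≠ 0 → tt x * tt ((c⁻¹ * c⁻¹) • Y) ∈ G := by
      intro c hc
      have hPm := (P.smul hc).sl_mem (he.1.smul c) (hf.smul c⁻¹) wSL
      have hQm := (Q.smul hc).sl_mem (he.1.smul c) (hy.smul c⁻¹) wSL
      have hpr : ∀ {g : V →ₗ[ZMod p] V}, pr e g = 1 → pr (c • e) (c⁻¹ • g) = 1 := by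
        intro g hg
        rw [pr, smul_mul_smul_comm, smul_mul_smul_comm, mul_inv_cancel₀ hc, inv_mul_cancel₀ hc,
          one_smul, one_smul]
        exact hg
      have e1 : (P.smul hc).w⁻¹.1 = c⁻¹ • f - c • e := by
        rw [Pair.w_inv_val, hpr hP, sub_self, zero_add]
      have e2 : (Q.smul hc).w.1 = (1 + x) * (c • e - c⁻¹ • f) * (1 - x) := by
        rw [Pair.w_val, hpr hQ, sub_self, zero_add, ← hy', cjl, tt_inv_val xx, tt_val xx]
        have hee : (1 + x) * e * (1 - x) = e := by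
          rw [add_mul, one_mul, xe, add_zero, mul_sub, mul_one, ex, sub_zero]
        rw [mul_sub (1 + x), sub_mul _ _ (1 - x), mul_smul_comm, smul_mul_assoc, mul_smul_comm,
          smul_mul_assoc, hee]
      have e3 : (Q.smul hc).w * (P.smul hc).w⁻¹ = tt x * tt ((c⁻¹ * c⁻¹) • Y) := by
        refine Units.ext ?_
        rw [Units.val_mul, Units.val_mul, e1, e2, tt_val xx, tt_val (smul_sq YY _)]
        have hone : (c • e - c⁻¹ • f) * (c⁻¹ • f - c • e) = 1 := by
          rw [sub_mul, mul_sub, mul_sub]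
          simp only [smul_mul_smul_comm, P.ee, P.ff, smul_zero, sub_zero, zero_sub, sub_neg_eq_add,
            mul_inv_cancel₀ hc, inv_mul_cancel₀ hc, one_smul]
          exact hP
        have hxw : (c • e - c⁻¹ • f) * x * (c⁻¹ • f - c • e) = -((c⁻¹ * c⁻¹) • Y) := by
          rw [sub_mul (c • e), smul_mul_assoc, smul_mul_assoc, ex, smul_zero, zero_sub, neg_mul,
            smul_mul_assoc, mul_sub, mul_smul_comm, mul_smul_comm, mul_assoc f x e, xe, mul_zero,
            smul_zero, sub_zero, smul_smul, hY]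
        calc (1 + x) * (c • e - c⁻¹ • f) * (1 - x) * (c⁻¹ • f - c • e)
            = (1 + x) * ((c • e - c⁻¹ • f) * (c⁻¹ • f - c • e) -
              (c • e - c⁻¹ • f) * x * (c⁻¹ • f - c • e)) := by
              generalize c • e - c⁻¹ • f = s1
              generalize c⁻¹ • f - c • e = s2
              noncomm_ring
          _ = _ := by rw [hone, hxw, sub_neg_eq_add]
      rw [← e3]
      exact mul_mem hQm (inv_mem hPm)
    have h4 : ((2 : ZMod p)⁻¹ * (2 : ZMod p)⁻¹ - 1) ≠ 0 := by
      intro h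
      have h1 : (1 : ZMod p) = 2 * 2 := by
        rw [sub_eq_zero] at h
        calc (1 : ZMod p) = (2 * (2 : ZMod p)⁻¹) * (2 * (2 : ZMod p)⁻¹) := by rw [mul_inv_cancel₀ h2, one_mul]
          _ = 2 * 2 * ((2 : ZMod p)⁻¹ * (2 : ZMod p)⁻¹) := by ring
          _ = 2 * 2 := by rw [h, mul_one]
      have h5 : ((3 : ℕ) : ZMod p) = 0 := by push_cast; linear_combination -h1
      rw [ZMod.natCast_eq_zero_iff] at h5
      exact absurd (Nat.le_of_dvd (by norm_num) h5) (by omega)
    have k1 := key 1 one_ne_zero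
    rw [inv_one, one_mul, one_smul] at k1
    have k2 := key 2 h2
    have hmem := mul_mem (inv_mem k1) k2
    rw [_root_.mul_inv_rev, mul_assoc, inv_mul_cancel_left, ← tt_neg YY,
      ← tt_add (by rw [neg_mul_neg, YY]) (smul_sq YY _) (by rw [mul_smul_comm, neg_mul, YY, neg_zero, smul_zero])
        (by rw [smul_mul_assoc, mul_neg, YY, neg_zero, smul_zero])] at hmem
    have hfam := fam_of_mem (x := -Y + ((2 : ZMod p)⁻¹ * (2 : ZMod p)⁻¹) • Y) (by
      rw [show -Y + ((2 : ZMod p)⁻¹ * (2 : ZMod p)⁻¹) • Y = ((2 : ZMod p)⁻¹ * (2 : ZMod p)⁻¹ - 1) • Y by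
        rw [sub_smul, one_smul]; abel]
      exact smul_sq YY _) hmem
    rw [show -Y + ((2 : ZMod p)⁻¹ * (2 : ZMod p)⁻¹) • Y = ((2 : ZMod p)⁻¹ * (2 : ZMod p)⁻¹ - 1) • Y by
      rw [sub_smul, one_smul]; abel] at hfam
    have := hfam.smul ((2 : ZMod p)⁻¹ * (2 : ZMod p)⁻¹ - 1)⁻¹
    rwa [smul_smul, inv_mul_cancel₀ h4, one_smul] at this
  have hxF : Fam G x := by
    have hw : P.w ∈ G := P.sl_mem he.1 hf _
    have e1 : cjl P.w Y = -x := by
      rw [hY, cjl_mul', cjl_mul', show cjl P.w f = -e from P.w_f, neg_mul, neg_mul, mul_neg, neg_neg, cjl,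
        P.w_val, P.w_inv_val, hP, sub_self, zero_add, zero_add]
      calc e * ((e - f) * x * (f - e)) * e
          = (e * e) * x * (f - e) * e - e * f * x * (f * e) + e * f * x * e * e := by noncomm_ring
        _ = _ := by
          rw [P.ee, zero_mul, zero_mul, zero_mul, zero_sub, mul_assoc (e * f * x) e e, P.ee, mul_zero,
            add_zero, hx, show e * f * (e * f * y * e) * (f * e) = e * f * e * f * y * (e * f * e) by
              noncomm_ring, P.efe]
    have h := fam_cjl (g := P.w) (fun z hz => mul_mem (mul_mem hw hz) (inv_mem hw)) hX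
    rw [e1] at h
    simpa using h.smul (-1)
  refine ⟨x, ⟨hxF, ?_, ?_⟩, hy'⟩
  · intro v hv
    rw [hG e he] at hv
    obtain ⟨w, rfl⟩ := hv
    exact LinearMap.congr_fun xe w
  · rw [hG e he, inf_idem, hx, mul_assoc, mul_assoc]
    exact LinearMap.range_comp_le_range _ _

omit h2 h3 in
/-- A partner in a given class is unique. -/
theorem pair_unique {e f g f' : V →ₗ[ZMod p] V} (he : IsMin G e) (hf : IsMin G f) (hg : g ∈ cls G f)
    (hg' : f' ∈ cls G f) (P : Pair e g) (Q : Pair e f') : g = f' := by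
  by_contra hne
  obtain ⟨hm, -, -⟩ := cls_min hf (sub_mem hg hg') (sub_ne_zero.2 hne)
  have h0 : e * (g - f') * e = 0 := by rw [mul_sub, sub_mul, P.efe, Q.efe, sub_self]
  have hP := hG.pr_eq_one he P
  have h1 : (g - f') * g = 0 := cls_mul (sub_mem hg hg') hg
  have h4 : g * (g - f') = 0 := cls_mul hg (sub_mem hg hg')
  exact hne (sub_eq_zero.1 <| calc g - f' = pr e g * (g - f') * pr e g := by rw [hP, one_mul, mul_one]
    _ = e * (g * (g - f')) * pr e g + g * e * ((g - f') * g) * e + g * (e * (g - f') * e) * g := by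
        rw [pr]; noncomm_ring
    _ = 0 := by rw [h4, h1, h0]; simp)

/-- The class of `e` is closed under `x ↦ x g x`. -/
theorem sq_mem_cls {e f g x : V →ₗ[ZMod p] V} (he : IsMin G e) (hf : IsMin G f) (hef : e * f * e ≠ 0)
    (hg : g ∈ cls G f) (hx : x ∈ cls G e) : x * g * x ∈ cls G e := by
  rcases eq_or_ne x 0 with rfl | hx0
  · simp
  obtain ⟨hxm, hk, hr⟩ := cls_min he hx hx0
  have hxf : x * f * x ≠ 0 := by
    intro h
    apply hef
    rw [mid_mul_eq_zero_iff] at h ⊢
    rwa [hk, hr] at h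
  obtain ⟨y, hy, hym, Q⟩ := exists_pair h2 h3 hxm hf hxf
  have h1 : g * y = 0 := cls_mul hg hy
  have h4 : y * g = 0 := cls_mul hy hg
  have hw : Q.w ∈ G := Q.sl_mem hxm.1 hym.1 _
  have hfam := fam_cjl (g := Q.w) (fun z hz => mul_mem (mul_mem hw hz) (inv_mem hw)) hg.1
  have e1 : cjl Q.w g = -(x * g * x) := by
    rw [cjl, Q.w_val, Q.w_inv_val, hG.pr_eq_one hxm Q, sub_self, zero_add, zero_add]
    calc (x - y) * g * (y - x) = x * (g * y) - x * g * x - (y * g) * (y - x) := by noncomm_ring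
      _ = _ := by rw [h1, h4, mul_zero, zero_sub, zero_mul, sub_zero]
  rw [e1] at hfam
  refine ⟨by simpa using hfam.smul (-1), fun v hv => ?_, ?_⟩
  · show x (g (x v)) = 0
    rw [LinearMap.mem_ker.1 (hx.2.1 hv), map_zero, map_zero]
  · rw [mul_assoc]
    exact (LinearMap.range_comp_le_range _ _).trans hx.2.2

/-- `x g x` determines `x` up to sign. -/
theorem sq_inj {e f : V →ₗ[ZMod p] V} (he : IsMin G e) (hf : IsMin G f) (P : Pair e f)
    {x y : V →ₗ[ZMod p] V} (hx : x ∈ cls G e) (hy : y ∈ cls G e) (h : x * f * x = y * f * y) :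
    y = x ∨ y = -x := by
  have hP := hG.pr_eq_one he P
  have hef : e * f * e ≠ 0 := by rw [P.efe]; exact he.2.1
  let φ : (V →ₗ[ZMod p] V) →ₗ[ZMod p] (V →ₗ[ZMod p] V) := LinearMap.mulRight (ZMod p) f
  have hback : ∀ z ∈ cls G e, z * f * e = z := by
    intro z hz
    have h0 : z * e = 0 := cls_mul hz (self_mem_cls he.1)
    calc z * f * e = z * pr e f := by rw [pr, mul_add, ← mul_assoc z e f, h0, zero_mul, zero_add, mul_assoc]
      _ = z := by rw [hP, mul_one]
  have hleft : ∀ z ∈ cls G e, e * f * z = z := by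
    intro z hz
    have h0 : e * z = 0 := cls_mul (self_mem_cls he.1) hz
    calc e * f * z = pr e f * z := by rw [pr, add_mul, mul_assoc f e z, h0, mul_zero, add_zero]
      _ = z := by rw [hP, one_mul]
  have J : JordanSpace ((cls G e).map φ) (e * f) := by
    refine ⟨⟨e, self_mem_cls he.1, rfl⟩, ?_, ?_, ?_, ?_⟩
    · rintro _ ⟨z, hz, rfl⟩
      show e * f * (z * f) = z * f
      rw [← mul_assoc, hleft z hz]
    · rintro _ ⟨z, hz, rfl⟩
      show z * f * (e * f) = z * f
      rw [← mul_assoc, hback z hz]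
    · rintro _ ⟨z, hz, rfl⟩
      exact ⟨_, sq_mem_cls hG h2 h3 he hf hef (self_mem_cls hf.1) hz, by
        show z * f * z * f = z * f * (z * f); noncomm_ring⟩
    · rintro _ ⟨z, hz, rfl⟩ hz0 w hw hzw
      have hz0' : z ≠ 0 := fun e0 => hz0 (by rw [e0, map_zero])
      obtain ⟨hzm, hk, -⟩ := cls_min he hz hz0'
      have h1 : LinearMap.range (f * w) ≤ LinearMap.range e := by
        rw [← hG e he, ← hk]
        rintro _ ⟨v, rfl⟩
        exact LinearMap.congr_fun hzw v
      have h4 : e * (f * w) = 0 := (hG.mul_eq_zero he).2 h1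
      rw [← hw, mul_assoc, h4]
  have hinj : ∀ a ∈ cls G e, ∀ b ∈ cls G e, a * f = b * f → a = b := fun a ha b hb h => by
    rw [← hback a ha, ← hback b hb, h]
  have hq : x * f * (x * f) = y * f * (y * f) := by
    rw [← mul_assoc, ← mul_assoc, h]
  rcases J.sq_inj h2 (x := x * f) (y := y * f) ⟨x, hx, rfl⟩ ⟨y, hy, rfl⟩ hq with e1 | e1
  · exact Or.inl (hinj y hy x hx e1)
  · exact Or.inr (hinj y hy (-x) (neg_mem hx) (by rw [e1, neg_mul]))

end Prime

end CfsgLib.QuadFixed
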