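import Cfsg.Agent.Lib.QuadFixed.Class
import Cfsg.Agent.Lib.Involutions.BaerSuzuki

/-!
Opposite least elements: existence (Baer–Suzuki), the components of the opposition graph, conjugacy of
classes inside a component, commutation of different components.
-/

set_option autoImplicit false

namespace CfsgLib.QuadFixed

open CfsgLib.Quadratic

variable {p : ℕ} [Fact p.Prime] {V : Type*} [AddCommGroup V] [Module (ZMod p) V] [Finite V]
variable {H : Subgroup (LinearMap.GeneralLinearGroup (ZMod p) V)}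

omit [Finite V] in
/-- Two square-zero maps with `s t s = 0 = t s t` give an abstract `p`-group. -/
theorem isPGroup_pair (hp3 : 3 ≤ p) {s t : V →ₗ[ZMod p] V} (hs : s * s = 0) (ht : t * t = 0)
    (h1 : s * t * s = 0) (h2 : t * s * t = 0) :
    IsPGroup p (Subgroup.closure ({tt s, tt t} : Set (LinearMap.GeneralLinearGroup (ZMod p) V))) := by
  have ss : ∀ v, s (s v) = 0 := fun v => LinearMap.congr_fun hs v
  have tt' : ∀ v, t (t v) = 0 := fun v => LinearMap.congr_fun ht v
  have sts : ∀ v, s (t (s v)) = 0 := fun v => LinearMap.congr_fun h1 v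
  have tst : ∀ v, t (s (t v)) = 0 := fun v => LinearMap.congr_fun h2 v
  have h3 : flag s t 3 = ⊥ := by
    rw [eq_bot_iff]
    intro v hv
    obtain ⟨_, ⟨a, ha, rfl⟩, _, ⟨b, hb, rfl⟩, rfl⟩ := Submodule.mem_sup.1 hv
    obtain ⟨_, ⟨a1, ha1, rfl⟩, _, ⟨a2, ha2, rfl⟩, rfl⟩ := Submodule.mem_sup.1 ha
    obtain ⟨_, ⟨b1, hb1, rfl⟩, _, ⟨b2, hb2, rfl⟩, rfl⟩ := Submodule.mem_sup.1 hb
    obtain ⟨_, ⟨c, -, rfl⟩, _, ⟨d, -, rfl⟩, rfl⟩ := Submodule.mem_sup.1 ha2
    obtain ⟨_, ⟨c', -, rfl⟩, _, ⟨d', -, rfl⟩, rfl⟩ := Submodule.mem_sup.1 hb1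
    simp [map_add, ss, tt', sts, tst]
  have hgen : ∀ x : V →ₗ[ZMod p] V, x * x = 0 → Deep s t 1 x → tt x ∈ deepGroup s t 1 := by
    intro x hx hd
    refine ⟨?_, ?_⟩
    · rw [tt_val hx, add_sub_cancel_left]; exact hd
    · rw [tt_inv_val hx, show (1 : V →ₗ[ZMod p] V) - x - 1 = (-1 : ZMod p) • x by rw [neg_one_smul]; abel]
      exact deep_smul _ hd
  intro g
  have hg : g.1 ∈ deepGroup s t 1 := by
    refine (Subgroup.closure_le _).2 ?_ g.2
    rintro _ (rfl | rfl)
    exacts [hgen s hs deep_left, hgen t ht deep_right]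
  have hcube : (g.1.1 - 1) ^ 3 = 0 := by
    refine LinearMap.ext fun v => ?_
    have hd := deep_mul (deep_mul hg.1 hg.1) hg.1 0 v Submodule.mem_top
    rw [zero_add, h3, Submodule.mem_bot] at hd
    rw [show (g.1.1 - 1) ^ 3 = (g.1.1 - 1) * (g.1.1 - 1) * (g.1.1 - 1) by noncomm_ring]
    exact hd
  refine ⟨1, Subtype.ext (Units.ext ?_)⟩
  rcases subsingleton_or_nontrivial V with hV | hV
  · exact LinearMap.ext fun v => Subsingleton.elim _ _
  have : CharP (V →ₗ[ZMod p] V) p := charP_of_injective_algebraMap' (ZMod p) p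
  have h0 : (g.1.1 - 1) ^ p = 0 := pow_eq_zero_of_le hp3 hcube
  rw [sub_pow_char_of_commute p (Commute.one_right g.1.1), one_pow, sub_eq_zero] at h0
  simpa using h0

/-- Opposite partners exist when `O_p(H) = 1`. -/
theorem exists_opposite (hp3 : 3 ≤ p) (h2 : (2 : ZMod p) ≠ 0)
    (hO : ∀ N : Subgroup H, N.Normal → IsPGroup p N → N = ⊥) {s : V →ₗ[ZMod p] V}
    (hs : IsMin H s) : ∃ t, IsMin H t ∧ s * t * s ≠ 0 := by
  by_contra hcon
  push Not at hcon
  let g : H := ⟨tt s, hs.1.tt_mem⟩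
  obtain ⟨N, hN, hNp, hgN⟩ := CfsgLib.Involutions.exists_normal_isPGroup_of_mem (p := p) (x := g) fun c => by
    have hm := hs.conj c.2
    have hsts := hcon _ hm
    have htst := tst_eq_zero h2 hs hm hsts
    have key := isPGroup_pair hp3 hs.1.1 hm.1.1 hsts htst
    refine IsPGroup.of_injective key (((H.subtype.comp (Subgroup.subtype _))).codRestrict _ ?_) ?_
    · intro a
      have ha : (a : H).1 ∈ (Subgroup.closure ({g, c * g * c⁻¹} : Set H)).map H.subtype :=
        ⟨_, a.2, rfl⟩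
      rw [MonoidHom.map_closure, Set.image_pair] at ha
      rw [← tt_conj c.1 hs.1.1]
      exact ha
    · intro a b h
      have h' := congrArg Subtype.val h
      exact Subtype.ext (Subtype.ext h')
  have h1 := hO N hN hNp
  rw [h1, Subgroup.mem_bot] at hgN
  have h3 : tt s = tt 0 := by rw [tt_zero]; exact congrArg Subtype.val hgN
  exact hs.2.1 (tt_inj hs.1.1 (mul_zero _) h3)

variable (H) in
/-- Least elements. -/
abbrev El : Type _ := {s : V →ₗ[ZMod p] V // IsMin H s}

/-- Opposite least elements. -/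
def Opp' (s t : El H) : Prop := s.1 * t.1 * s.1 ≠ 0

/-- Joined by a chain of opposite pairs. -/
def Reach (s t : El H) : Prop := Relation.ReflTransGen Opp' s t

variable (h2 : (2 : ZMod p) ≠ 0) (h3 : Nat.card (ZMod p) ≠ 3)
  (hop : ∀ s : El H, ∃ t, Opp' s t)

include h2 in
theorem Opp'.symm {s t : El H} (h : Opp' s t) : Opp' t s := fun e => h (tst_eq_zero h2 t.2 s.2 e)

include h2 in
theorem Reach.symm {s t : El H} (h : Reach s t) : Reach t s := by
  induction h with
  | refl => exact Relation.ReflTransGen.refl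
  | tail _ hab ih => exact Relation.ReflTransGen.head (hab.symm h2) ih

theorem Reach.trans {s t r : El H} (h : Reach s t) (h' : Reach t r) : Reach s r :=
  Relation.ReflTransGen.trans h h'

theorem Opp'.reach {s t : El H} (h : Opp' s t) : Reach s t := Relation.ReflTransGen.single h

include h2 hop in
theorem reach_of_cls {s t : El H} (h : t.1 ∈ cls H s.1) : Reach s t := by
  obtain ⟨u, hu⟩ := hop s
  obtain ⟨-, hk, hr⟩ := cls_min s.2 h t.2.2.1
  have hu' : Opp' t u := by
    intro e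
    apply hu
    rw [mid_mul_eq_zero_iff] at e ⊢
    rwa [hk, hr] at e
  exact hu.reach.trans (Reach.symm h2 hu'.reach)

include h2 h3 hop in
theorem reach_comm {a b : El H} (hab : a.1 * b.1 * a.1 = 0) (hne : a.1 * b.1 - b.1 * a.1 ≠ 0)
    (D : El H) (hD : D.1 = a.1 * b.1 - b.1 * a.1) : Reach a D := by
  have hba := tst_eq_zero h2 a.2 b.2 hab
  obtain ⟨u, hu⟩ := hop a
  obtain ⟨v₀, hv₀⟩ := hop D
  obtain ⟨y, hy, hym, P⟩ := exists_pair h2 h3 D.2 v₀.2 hv₀
  let v : El H := ⟨y, hym⟩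
  have hDv : Opp' D v := by show D.1 * y * D.1 ≠ 0; rw [P.efe]; exact D.2.2.1
  have hconj : ∀ c : ZMod p, IsMin H (a.1 + c • D.1) := by
    intro c
    have h := a.2.conj (b.2.1.2 (-c))
    rw [conj_eq (smul_sq b.2.1.1 _)] at h
    have e : a.1 + ((-c) • b.1 * a.1 - a.1 * (-c) • b.1) - (-c) • b.1 * a.1 * (-c) • b.1 = a.1 + c • D.1 := by
      rw [hD]
      simp only [smul_mul_assoc, mul_smul_comm, smul_smul, hba, smul_zero, sub_zero]
      module
    rwa [e] at h
  by_cases hud : Opp' D u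
  · exact hu.reach.trans (Reach.symm h2 hud.reach)
  have hDu : u.1 * D.1 * u.1 = 0 := tst_eq_zero h2 D.2 u.2 (not_not.1 hud)
  obtain ⟨c, hc⟩ : ∃ c : ZMod p, y * (a.1 + c • D.1) * y ≠ 0 := by
    by_contra hcon
    push Not at hcon
    have h1 := hcon 1
    have h0 := hcon 0
    rw [zero_smul, add_zero] at h0
    rw [one_smul, mul_add, add_mul, h0, zero_add, P.fef] at h1
    exact hym.2.1 h1
  let a' : El H := ⟨a.1 + c • D.1, hconj c⟩
  have hua : Opp' u a' := by
    show u.1 * (a.1 + c • D.1) * u.1 ≠ 0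
    rw [mul_add, add_mul, mul_smul_comm, smul_mul_assoc, hDu, smul_zero, add_zero]
    exact hu.symm h2
  have hva : Opp' v a' := hc
  exact hu.reach.trans (hua.reach.trans ((Reach.symm h2 hva.reach).trans (Reach.symm h2 hDv.reach)))

include h2 h3 hop in
/-- Different components commute. -/
theorem commute_of_not_reach {a b : El H} (h : ¬ Reach a b) :
    a.1 * b.1 * a.1 = 0 ∧ a.1 * b.1 = b.1 * a.1 := by
  have hab : a.1 * b.1 * a.1 = 0 := not_not.1 fun e => h (Opp'.reach e)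
  refine ⟨hab, by_contra fun hne0 => h ?_⟩
  have hne : a.1 * b.1 - b.1 * a.1 ≠ 0 := sub_ne_zero.2 hne0
  have hba := tst_eq_zero h2 a.2 b.2 hab
  let D : El H := ⟨_, IsMin.comm a.2 b.2 hab hba hne⟩
  let D' : El H := ⟨_, IsMin.comm b.2 a.2 hba hab (fun e => hne (by rw [← neg_sub, e, neg_zero]))⟩
  have hr : Reach D D' := by
    refine reach_of_cls h2 hop ?_
    show b.1 * a.1 - a.1 * b.1 ∈ cls H (a.1 * b.1 - b.1 * a.1)
    rw [show b.1 * a.1 - a.1 * b.1 = -(a.1 * b.1 - b.1 * a.1) from (neg_sub _ _).symm]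
    exact neg_mem (self_mem_cls D.2.1)
  exact (reach_comm h2 h3 hop hab hne D rfl).trans (hr.trans
    (Reach.symm h2 (reach_comm h2 h3 hop hba (fun e => hne (by rw [← neg_sub, e, neg_zero])) D' rfl)))

/-- Conjugation by a normalising element. -/
def actN (g : LinearMap.GeneralLinearGroup (ZMod p) V) (hg : ∀ h ∈ H, g * h * g⁻¹ ∈ H) (s : El H) : El H :=
  ⟨cjl g s.1, isMin_cjl hg s.2⟩

theorem Reach.act {s t : El H} (h : Reach s t) {g : LinearMap.GeneralLinearGroup (ZMod p) V}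
    (hg : ∀ h ∈ H, g * h * g⁻¹ ∈ H) : Reach (actN g hg s) (actN g hg t) := by
  refine h.lift (actN g hg) fun a b hab e => hab (cjl_eq_zero (g := g) ?_)
  rw [cjl_mul', cjl_mul']
  exact e

include h2 h3 hop in
theorem reach_cjl_tt (x t : El H) (hg : ∀ h ∈ H, tt x.1 * h * (tt x.1)⁻¹ ∈ H) :
    Reach (actN (tt x.1) hg t) t := by
  by_cases h : Reach x t
  · have h' := h.act hg
    have e : actN (tt x.1) hg x = x := by
      refine Subtype.ext ?_
      show cjl (tt x.1) x.1 = x.1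
      rw [cjl, conj_eq x.2.1.1, x.2.1.1]; simp
    rw [e] at h'
    exact (Reach.symm h2 h').trans h
  · have e : actN (tt x.1) hg t = t := by
      refine Subtype.ext ?_
      show cjl (tt x.1) t.1 = t.1
      obtain ⟨h0, h1⟩ := commute_of_not_reach h2 h3 hop h
      rw [cjl, conj_eq x.2.1.1, h0, h1]; simp
    rw [e]
    exact Relation.ReflTransGen.refl

include h2 h3 in
/-- Inside a component the classes are conjugate. -/
theorem exists_conj_cls {s t : El H} (h : Reach s t) : ∃ g ∈ H, cjl g s.1 ∈ cls H t.1 := by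
  induction h with
  | refl => exact ⟨1, one_mem _, by rw [cjl_one]; exact self_mem_cls s.2.1⟩
  | @tail b c _ hbc ih =>
    obtain ⟨g, hg, hgs⟩ := ih
    obtain ⟨y, hy, hym, P⟩ := exists_pair h2 h3 b.2 c.2 hbc
    have hw : P.w ∈ H := P.sl_mem b.2.1 hym.1 _
    have hn : ∀ h ∈ H, P.w * h * P.w⁻¹ ∈ H := fun z hz => mul_mem (mul_mem hw hz) (inv_mem hw)
    refine ⟨P.w * g, mul_mem hw hg, ?_⟩
    rw [cjl_mul]
    refine cls_cjl_eq hn b.2 c.2 ?_ _ hgs
    rw [show cjl P.w b.1 = -y from P.w_e]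
    exact neg_mem hy

end CfsgLib.QuadFixed
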