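import Cfsg.Agent.Lib.QuadFixed.Comp
import Cfsg.Agent.Lib.Coprime.Action
import Cfsg.Agent.Lib.LocalEven.InvolvesFour

/-!
A group of order prime to `|H|` acting on a group `H` with a single component of least elements fixes a
class and the involution of one of its pairs; if that involution is `-1` it fixes a whole pair.
-/

set_option autoImplicit false

namespace CfsgLib.QuadFixed

open CfsgLib.Quadratic
open scoped MatrixGroups

variable {p : ℕ} [Fact p.Prime] {V : Type*} [AddCommGroup V] [Module (ZMod p) V] [Finite V]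
variable {H : Subgroup (LinearMap.GeneralLinearGroup (ZMod p) V)}

/-- Normalisers. -/
theorem mem_normalizer_H {g : LinearMap.GeneralLinearGroup (ZMod p) V} :
    g ∈ Subgroup.normalizer (H : Set (LinearMap.GeneralLinearGroup (ZMod p) V)) ↔
      ∀ h ∈ H, g * h * g⁻¹ ∈ H :=
  ⟨fun hg _ hh => CfsgLib.Coprime.mem_normalizer_conj hg hh,
    CfsgLib.Coprime.mem_normalizer_of_forall_conj⟩

variable (H) in
/-- The stabiliser of the class of `e`. -/
noncomputable def clsStab (e : V →ₗ[ZMod p] V) : Subgroup (LinearMap.GeneralLinearGroup (ZMod p) V) :=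
  Subgroup.normalizer (H : Set (LinearMap.GeneralLinearGroup (ZMod p) V)) ⊓
    Subgroup.normalizer (esub H e : Set (LinearMap.GeneralLinearGroup (ZMod p) V))

theorem mem_clsStab {e : V →ₗ[ZMod p] V} (he : IsMin H e) {g : LinearMap.GeneralLinearGroup (ZMod p) V} :
    g ∈ clsStab H e ↔ (∀ h ∈ H, g * h * g⁻¹ ∈ H) ∧ cjl g e ∈ cls H e := by
  constructor
  · rintro ⟨h1, h2⟩
    refine ⟨mem_normalizer_H.1 h1, ?_⟩
    have h3 := CfsgLib.Coprime.mem_normalizer_conj h2 (tt_esub he (self_mem_cls he.1))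
    rw [tt_cjl g he.1.1] at h3
    obtain ⟨x, hx, e1⟩ := (mem_sameAction_iff he).1 h3
    have := tt_inj (conj_sq g he.1.1) hx.1.1 e1
    show g.1 * e * g⁻¹.1 ∈ _
    rw [this]; exact hx
  · rintro ⟨h1, h2⟩
    refine ⟨mem_normalizer_H.2 h1, CfsgLib.Coprime.mem_normalizer_of_forall_conj fun σ hσ => ?_⟩
    obtain ⟨x, hx, rfl⟩ := (mem_sameAction_iff he).1 hσ
    rw [tt_cjl g hx.1.1]
    exact tt_esub he (cls_cjl_eq h1 he he h2 x hx)

/-- The involutions inverting the root series of `e`. -/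
def IsInvol (e : V →ₗ[ZMod p] V) (i : LinearMap.GeneralLinearGroup (ZMod p) V) : Prop :=
  i * i = 1 ∧ (∀ v ∈ LinearMap.range e, i.1 v = -v) ∧ (∀ v, i.1 v + v ∈ LinearMap.ker e) ∧
    ∀ v ∈ LinearMap.ker e, i.1 v - v ∈ LinearMap.range e

theorem IsInvol.conj {e : V →ₗ[ZMod p] V} {i : LinearMap.GeneralLinearGroup (ZMod p) V} (h : IsInvol e i)
    (a : LinearMap.GeneralLinearGroup (ZMod p) V) : IsInvol (cjl a e) (a * i * a⁻¹) := by
  obtain ⟨h1, h2, h3, h4⟩ := h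
  have ai : ∀ v, a.1 (a⁻¹.1 v) = v := fun v =>
    LinearMap.congr_fun (Units.mul_inv a) v
  have ia : ∀ v, a⁻¹.1 (a.1 v) = v := fun v =>
    LinearMap.congr_fun (Units.inv_mul a) v
  refine ⟨by rw [show a * i * a⁻¹ * (a * i * a⁻¹) = a * (i * i) * a⁻¹ by group, h1, mul_one,
    mul_inv_cancel], ?_, fun v => ?_, fun v hv => ?_⟩
  · rw [cjl, range_conj]
    rintro _ ⟨u, hu, rfl⟩
    show a.1 (i.1 (a⁻¹.1 (a.1 u))) = -a.1 u
    rw [ia, h2 u hu, map_neg]
  · rw [cjl, ker_conj, Submodule.mem_comap]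
    show a⁻¹.1 (a.1 (i.1 (a⁻¹.1 v)) + v) ∈ _
    rw [map_add, ia]
    exact h3 _
  · rw [cjl, ker_conj, Submodule.mem_comap] at hv
    rw [cjl, range_conj]
    refine ⟨_, h4 _ hv, ?_⟩
    show a.1 (i.1 (a⁻¹.1 v) - a⁻¹.1 v) = a.1 (i.1 (a⁻¹.1 v)) - v
    rw [map_sub, ai]

theorem IsInvol.of_cls {e x : V →ₗ[ZMod p] V} {i : LinearMap.GeneralLinearGroup (ZMod p) V} (he : IsMin H e)
    (hx : x ∈ cls H e) (hx0 : x ≠ 0) (h : IsInvol x i) : IsInvol e i := by
  obtain ⟨-, hk, hr⟩ := cls_min he hx hx0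
  unfold IsInvol at h ⊢
  rwa [← hk, ← hr]

omit [Finite V] in
theorem Pair.isInvol {e f : V →ₗ[ZMod p] V} (P : Pair e f) : IsInvol e P.inv := by
  refine ⟨P.inv_sq, ?_, fun v => ?_, fun v hv => ?_⟩
  · rintro _ ⟨u, rfl⟩
    exact LinearMap.congr_fun P.inv_e.1 u
  · show e (P.inv.1 v + v) = 0
    rw [map_add, show e (P.inv.1 v) = (e * P.inv.1) v from rfl, P.inv_e.2]
    simp
  · refine ⟨-(f v + f v), ?_⟩
    rw [P.inv_val, map_neg, map_add]
    show -(e (f v) + e (f v)) = v - (e (f v) + f (e v) + (e (f v) + f (e v))) - v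
    rw [LinearMap.mem_ker.1 hv, map_zero]
    abel

/-- Two of them are conjugate by an element fixing the class pointwise. -/
theorem IsInvol.exists_conj (hp3 : 3 ≤ p) {e : V →ₗ[ZMod p] V} (he : IsMin H e)
    {i j : LinearMap.GeneralLinearGroup (ZMod p) V} (hi : IsInvol e i) (hj : IsInvol e j) (hiH : i ∈ H)
    (hjH : j ∈ H) :
    ∃ c ∈ H ⊓ Subgroup.centralizer (esub H e : Set (LinearMap.GeneralLinearGroup (ZMod p) V)),
      c * i * c⁻¹ = j := by
  set g := i * j with hg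
  obtain ⟨hi1, hi2, hi3, hi4⟩ := hi
  obtain ⟨hj1, hj2, hj3, hj4⟩ := hj
  have gR : ∀ v ∈ LinearMap.range e, g.1 v = v := fun v hv => by
    show i.1 (j.1 v) = v
    rw [hj2 v hv, map_neg, hi2 v hv, neg_neg]
  have gK : ∀ v, g.1 v - v ∈ LinearMap.ker e := fun v => by
    show i.1 (j.1 v) - v ∈ _
    have := sub_mem (hi3 (j.1 v)) (hj3 v)
    rwa [show i.1 (j.1 v) + j.1 v - (j.1 v + v) = i.1 (j.1 v) - v by abel] at this
  have gKR : ∀ v ∈ LinearMap.ker e, g.1 v - v ∈ LinearMap.range e := fun v hv => by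
    show i.1 (j.1 v) - v ∈ _
    have h1 := hj4 v hv
    have h2 : i.1 (j.1 v - v) = -(j.1 v - v) := hi2 _ h1
    rw [show i.1 (j.1 v) - v = i.1 (j.1 v - v) + (i.1 v - v) by rw [map_sub]; abel, h2]
    exact add_mem (neg_mem h1) (hi4 v hv)
  have hcube : (g.1 - 1) ^ 3 = 0 := by
    refine LinearMap.ext fun v => ?_
    rw [show (g.1 - 1) ^ 3 = (g.1 - 1) * ((g.1 - 1) * (g.1 - 1)) by noncomm_ring]
    have h := gR _ (gKR _ (gK v))
    show g.1 (g.1 (g.1 v - v) - (g.1 v - v)) - (g.1 (g.1 v - v) - (g.1 v - v)) = 0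
    rw [h, sub_self]
  have hgp : g ^ p = 1 := by
    rcases subsingleton_or_nontrivial V with hV | hV
    · exact Units.ext (LinearMap.ext fun v => Subsingleton.elim _ _)
    have : CharP (V →ₗ[ZMod p] V) p := charP_of_injective_algebraMap' (ZMod p) p
    have h0 : (g.1 - 1) ^ p = 0 := pow_eq_zero_of_le hp3 hcube
    rw [sub_pow_char_of_commute p (Commute.one_right g.1), one_pow, sub_eq_zero] at h0
    exact Units.ext (by simpa using h0)
  obtain ⟨m, hm⟩ : Odd p := (Fact.out : p.Prime).odd_of_ne_two (by omega)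
  refine ⟨g ^ m, ⟨pow_mem (mul_mem hiH hjH) m, pow_mem ?_ m⟩, ?_⟩
  · show g ∈ Subgroup.centralizer _
    rw [Subgroup.mem_centralizer_iff]
    intro σ hσ
    obtain ⟨x, hx, rfl⟩ := (mem_sameAction_iff he).1 hσ
    refine ((tt_mul_eq_iff hx.1.1).2 ?_).symm
    have h1 : g.1 * x = x := LinearMap.ext fun v => gR _ (hx.2.2 ⟨v, rfl⟩).1
    have h2 : x * g.1 = x := LinearMap.ext fun v => by
      have := LinearMap.mem_ker.1 (hx.2.1 (gK v))
      rwa [map_sub, sub_eq_zero] at this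
    calc g.1 * x * g⁻¹.1 = x * g⁻¹.1 := by rw [h1]
      _ = x * g.1 * g⁻¹.1 := by rw [h2]
      _ = x := by rw [mul_assoc, Units.mul_inv, mul_one]
  · have hinv : i⁻¹ = i := inv_eq_of_mul_eq_one_right hi1
    have hjinv : j⁻¹ = j := inv_eq_of_mul_eq_one_right hj1
    have e1 : i * g * i = g⁻¹ := by
      rw [hg, ← mul_assoc, hi1, one_mul, _root_.mul_inv_rev, hinv, hjinv]
    have e2 : ∀ n : ℕ, i * g ^ n * i = (g ^ n)⁻¹ := by
      intro n
      induction n with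
      | zero => simp [hi1]
      | succ n ih =>
        calc i * g ^ (n + 1) * i = i * g * 1 * g ^ n * i := by rw [pow_succ', mul_one, mul_assoc i g]
          _ = (i * g * i) * (i * g ^ n * i) := by rw [← hi1]; simp only [mul_assoc]
          _ = (g ^ (n + 1))⁻¹ := by rw [e1, ih, ← _root_.mul_inv_rev, ← pow_succ]
    have e3 : g ^ m * i = i * (g ^ m)⁻¹ := by
      rw [← e2 m, ← mul_assoc, ← mul_assoc, hi1, one_mul]
    rw [e3, mul_assoc, ← _root_.mul_inv_rev, ← pow_add,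
      show j = i * g by rw [hg, ← mul_assoc, hi1, one_mul]]
    congr 1
    refine inv_eq_of_mul_eq_one_right ?_
    rw [← pow_succ, show m + m + 1 = p by omega, hgp]

variable {A : Subgroup (LinearMap.GeneralLinearGroup (ZMod p) V)}
  (hp5 : 5 ≤ p) (h2 : (2 : ZMod p) ≠ 0) (h3 : Nat.card (ZMod p) ≠ 3)
  (hA : ∀ a ∈ A, ∀ h ∈ H, a * h * a⁻¹ ∈ H) (hcop : (Nat.card A).Coprime (Nat.card H))
  (hsolv : Group.IsSolvable A ∨ Group.IsSolvable H)

include hA hcop hsolv in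
/-- Glauberman's lemma inside `H`. -/
theorem exists_conj_mem (K : Subgroup (LinearMap.GeneralLinearGroup (ZMod p) V)) (hKH : K ≤ H)
    (hAK : ∀ a ∈ A, ∀ x ∈ K, a * x * a⁻¹ ∈ K) (S : Subgroup (LinearMap.GeneralLinearGroup (ZMod p) V))
    (hS : ∀ a ∈ A, ∃ k ∈ K, k⁻¹ * a ∈ S) : ∃ x ∈ K, ∀ a ∈ A, x * a * x⁻¹ ∈ S :=
  CfsgLib.Coprime.exists_conj_mem_of_forall_mul A K
    (fun a ha => CfsgLib.Coprime.mem_normalizer_of_forall_conj (hAK a ha))
    (hcop.coprime_dvd_right (Subgroup.card_dvd_of_le hKH))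
    (hsolv.imp id fun h => @Group.isSolvable_of_isSolvable_injective _ _ _ _ _ (Subgroup.inclusion_injective hKH) h) S hS

include hp5 h2 h3 hA hcop hsolv in
/-- `A` fixes a class and the involution of a pair on it. -/
theorem exists_fixed_invol (hone : ∀ s t : El H, Reach s t) (hop : ∀ s : El H, ∃ t, Opp' s t) (s₀ : El H) :
    ∃ e f, IsMin H e ∧ IsMin H f ∧ ∃ P : Pair e f,
      (∀ a ∈ A, a * P.inv = P.inv * a) ∧ ∀ a ∈ A, cjl a e ∈ cls H e := by
  -- a fixed class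
  obtain ⟨x, hx, hxA⟩ := exists_conj_mem hA hcop hsolv H le_rfl hA (clsStab H s₀.1) fun a ha => by
    obtain ⟨g, hg, hgs⟩ := exists_conj_cls h2 h3 (hone s₀ ⟨_, isMin_cjl (hA a ha) s₀.2⟩)
    refine ⟨g, hg, (mem_clsStab s₀.2).2 ⟨?_, ?_⟩⟩
    · intro h hh
      rw [show g⁻¹ * a * h * (g⁻¹ * a)⁻¹ = g⁻¹ * (a * h * a⁻¹) * g by group]
      exact mul_mem (mul_mem (inv_mem hg) (hA a ha h hh)) hg
    · rw [cjl_mul]
      have hn : ∀ h ∈ H, g⁻¹ * h * g⁻¹⁻¹ ∈ H := fun h hh =>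
        mul_mem (mul_mem (inv_mem hg) hh) (inv_mem (inv_mem hg))
      have hge : cjl g s₀.1 ≠ 0 := fun e0 => s₀.2.2.1 (cjl_eq_zero e0)
      have hm := isMin_cjl (fun h hh => mul_mem (mul_mem hg hh) (inv_mem hg)) s₀.2
      refine cls_cjl_eq hn hm s₀.2 (by rw [cjl_inv_cjl]; exact self_mem_cls s₀.2.1) _ ?_
      rw [cls_eq (isMin_cjl (hA a ha) s₀.2) hgs hge]
      exact self_mem_cls (isMin_cjl (hA a ha) s₀.2).1
  set e := cjl x⁻¹ s₀.1 with hedef
  have hxn : ∀ h ∈ H, x⁻¹ * h * x⁻¹⁻¹ ∈ H := fun h hh =>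
    mul_mem (mul_mem (inv_mem hx) hh) (inv_mem (inv_mem hx))
  have he : IsMin H e := isMin_cjl hxn s₀.2
  have hAe : ∀ a ∈ A, cjl a e ∈ cls H e := by
    intro a ha
    have h1 := ((mem_clsStab s₀.2).1 (hxA a ha)).2
    have h4 := cls_cjl hxn h1
    rw [← cjl_mul, show x⁻¹ * (x * a * x⁻¹) = a * x⁻¹ by group, cjl_mul] at h4
    exact h4
  -- a fixed involution
  obtain ⟨t, ht⟩ := hop ⟨e, he⟩
  obtain ⟨f, hf, hfm, P⟩ := exists_pair h2 h3 he t.2 ht
  have hiH : P.inv ∈ H := P.sl_mem he.1 hfm.1 _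
  obtain ⟨c, hc, hcA⟩ := exists_conj_mem hA hcop hsolv
    (H ⊓ Subgroup.centralizer (esub H e : Set (LinearMap.GeneralLinearGroup (ZMod p) V))) inf_le_left
    (fun a ha y hy => ⟨hA a ha y hy.1, Subgroup.mem_centralizer_iff.2 fun σ hσ => by
      have hs : a⁻¹ * σ * a ∈ esub H e := by
        have := CfsgLib.Coprime.mem_normalizer_conj'
          ((mem_clsStab he).2 ⟨hA a ha, hAe a ha⟩).2 hσ
        exact this
      have := Subgroup.mem_centralizer_iff.1 hy.2 _ hs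
      calc σ * (a * y * a⁻¹) = a * ((a⁻¹ * σ * a) * y) * a⁻¹ := by group
        _ = a * (y * (a⁻¹ * σ * a)) * a⁻¹ := by rw [this]
        _ = _ := by group⟩)
    (Subgroup.centralizer {P.inv}) fun a ha => by
      have hj : IsInvol e (a * P.inv * a⁻¹) :=
        (P.isInvol.conj a).of_cls he (hAe a ha) fun e0 => he.2.1 (cjl_eq_zero e0)
      obtain ⟨c, hc, hce⟩ := IsInvol.exists_conj (by omega) he P.isInvol hj hiH (hA a ha _ hiH)
      refine ⟨c, hc, Subgroup.mem_centralizer_singleton_iff.2 ?_⟩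
      calc c⁻¹ * a * P.inv = c⁻¹ * (a * P.inv * a⁻¹) * a := by group
        _ = P.inv * (c⁻¹ * a) := by rw [← hce]; group
  have hcn : ∀ h ∈ H, c⁻¹ * h * c⁻¹⁻¹ ∈ H := fun h hh =>
    mul_mem (mul_mem (inv_mem hc.1) hh) (inv_mem (inv_mem hc.1))
  have hce : cjl c⁻¹ e = e := by
    refine (tt_mul_eq_iff he.1.1).1 ?_
    have := Subgroup.mem_centralizer_iff.1 (inv_mem hc.2) _ (tt_esub he (self_mem_cls he.1))
    exact this.symm
  have P' : Pair e (cjl c⁻¹ f) := by have := P.cjl c⁻¹; rwa [hce] at this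
  refine ⟨e, cjl c⁻¹ f, he, isMin_cjl hcn hfm, P', fun a ha => ?_, hAe⟩
  have hinv : P'.inv = c⁻¹ * P.inv * c := by
    refine Units.ext ?_
    rw [Units.val_mul, Units.val_mul, P'.inv_val, P.inv_val]
    have e1 : pr e (cjl c⁻¹ f) = cjl c⁻¹ (pr e f) := by
      conv_lhs => rw [← hce]
      simp only [pr, cjl, inv_inv, mul_add, add_mul]
      congr 1 <;>
      · simp only [mul_assoc]
        congr 2
        rw [← mul_assoc c.1, Units.mul_inv, one_mul]
    rw [e1, cjl, inv_inv]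
    simp only [mul_sub, sub_mul, mul_add, add_mul, mul_one, Units.inv_mul]
  have := Subgroup.mem_centralizer_singleton_iff.1 (hcA a ha)
  rw [hinv]
  calc a * (c⁻¹ * P.inv * c) = c⁻¹ * ((c * a * c⁻¹) * P.inv) * c := by group
    _ = c⁻¹ * (P.inv * (c * a * c⁻¹)) * c := by rw [this]
    _ = _ := by group

include h2 h3 in
/-- With kernels equal to ranges, two classes in one component are equal or opposite. -/
theorem Half.trichotomy (hG : Half H) {s t : El H} (h : Reach s t) :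
    t.1 ∈ cls H s.1 ∨ Opp' s t := by
  induction h with
  | refl => exact Or.inl (self_mem_cls s.2.1)
  | @tail b c _ hbc ih =>
    rcases ih with hb | hsb
    · refine Or.inr fun e0 => hbc ?_
      obtain ⟨-, hk, hr⟩ := cls_min s.2 hb b.2.2.1
      rw [mid_mul_eq_zero_iff] at e0 ⊢
      rwa [hk, hr]
    · refine or_iff_not_imp_right.2 fun hsc => ?_
      obtain ⟨y, hy, hym, P⟩ := exists_pair h2 h3 s.2 b.2 hsb
      refine hG.mem_cls h2 h3 s.2 hym c.2 P (not_not.1 hsc) fun e0 => hbc ?_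
      obtain ⟨-, hk, hr⟩ := cls_min b.2 hy hym.2.1
      rw [mid_mul_eq_zero_iff] at e0 ⊢
      rwa [← hk, ← hr]

include hp5 h2 h3 hA hcop hsolv in
/-- With kernels equal to ranges, `A` fixes a pair. -/
theorem exists_fixed_pair (hG : Half H) (hodd : Odd (Nat.card A)) {e f₀ : V →ₗ[ZMod p] V} (he : IsMin H e)
    (hf₀ : IsMin H f₀) (P₀ : Pair e f₀) (hAe : ∀ a ∈ A, cjl a e ∈ cls H e) :
    ∃ x y, IsMin H x ∧ IsMin H y ∧ Pair x y ∧ (∀ a ∈ A, cjl a x = x) ∧ ∀ a ∈ A, cjl a y = y := by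
  have hAse : ∀ a ∈ A, a ∈ clsStab H e := fun a ha => (mem_clsStab he).2 ⟨hA a ha, hAe a ha⟩
  -- a second fixed class
  obtain ⟨x, hx, hxA⟩ := exists_conj_mem hA hcop hsolv (esub H e) (esub_le he)
    (fun a ha y hy => CfsgLib.Coprime.mem_normalizer_conj (hAse a ha).2 hy) (clsStab H f₀) fun a ha => by
    have htm := isMin_cjl (hA a ha) hf₀
    have het : e * cjl a f₀ * e ≠ 0 := by
      intro h
      have h1 : cjl a e * cjl a f₀ * cjl a e = 0 := by
        obtain ⟨-, hk, hr⟩ := cls_min he (hAe a ha) fun e0 => he.2.1 (cjl_eq_zero e0)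
        rw [mid_mul_eq_zero_iff] at h ⊢
        rwa [hk, hr]
      rw [← cjl_mul', ← cjl_mul', P₀.efe] at h1
      exact he.2.1 (cjl_eq_zero h1)
    obtain ⟨y, hy, hym, Q⟩ := exists_pair h2 h3 he htm het
    obtain ⟨z, hz, hzy⟩ := exists_translation hG h2 hp5 he hf₀.1 hym.1 P₀ Q
    refine ⟨tt z, tt_esub he hz, (mem_clsStab hf₀).2 ⟨?_, ?_⟩⟩
    · intro h hh
      rw [show (tt z)⁻¹ * a * h * ((tt z)⁻¹ * a)⁻¹ = (tt z)⁻¹ * (a * h * a⁻¹) * tt z by group]
      exact mul_mem (mul_mem (inv_mem hz.1.tt_mem) (hA a ha h hh)) hz.1.tt_mem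
    · rw [cjl_mul]
      refine cls_cjl_eq (fun h hh => mul_mem (mul_mem (inv_mem hz.1.tt_mem) hh) (inv_mem (inv_mem hz.1.tt_mem)))
        hym hf₀ ?_ _ ?_
      · rw [← hzy, cjl_inv_cjl]; exact self_mem_cls hf₀.1
      · rw [cls_eq htm hy hym.2.1]; exact self_mem_cls htm.1
  obtain ⟨z, hz, rfl⟩ := (mem_sameAction_iff he).1 hx
  set f := cjl (tt z)⁻¹ f₀ with hfdef
  have hzn : ∀ h ∈ H, (tt z)⁻¹ * h * (tt z)⁻¹⁻¹ ∈ H := fun h hh =>
    mul_mem (mul_mem (inv_mem hz.1.tt_mem) hh) (inv_mem (inv_mem hz.1.tt_mem))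
  have hf : IsMin H f := isMin_cjl hzn hf₀
  have hze : cjl (tt z)⁻¹ e = e := by
    have hze' : z * e = 0 := cls_mul hz (self_mem_cls he.1)
    have hez' : e * z = 0 := cls_mul (self_mem_cls he.1) hz
    rw [cjl, inv_inv, tt_inv_val hz.1.1, tt_val hz.1.1, sub_mul, one_mul, hze', sub_zero, mul_add,
      mul_one, hez', add_zero]
  have P : Pair e f := by have := P₀.cjl (tt z)⁻¹; rwa [hze] at this
  have hAsf : ∀ a ∈ A, a ∈ clsStab H f := by
    intro a ha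
    refine (mem_clsStab hf).2 ⟨hA a ha, ?_⟩
    have h4 := cls_cjl hzn ((mem_clsStab hf₀).1 (hxA a ha)).2
    rw [← cjl_mul, show (tt z)⁻¹ * (tt z * a * (tt z)⁻¹) = a * (tt z)⁻¹ by group, cjl_mul] at h4
    exact h4
  clear_value f
  -- the orbits of the stabiliser of the two classes on the class of `e`
  set T := H ⊓ clsStab H e ⊓ clsStab H f with hT
  have hef : e * f * e ≠ 0 := by rw [P.efe]; exact he.2.1
  have hpart : ∀ w ∈ cls H e, w ≠ 0 → ∃ g, g ∈ cls H f ∧ IsMin H g ∧ Pair w g := by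
    intro w hw hw0
    obtain ⟨hwm, hk, hr⟩ := cls_min he hw hw0
    refine exists_pair h2 h3 hwm hf fun h => hef ?_
    rw [mid_mul_eq_zero_iff] at h ⊢
    rwa [hk, hr] at h
  let R : (V →ₗ[ZMod p] V) → (V →ₗ[ZMod p] V) → Prop := fun u v => ∃ t ∈ T, cjl t u = v
  have Rrefl : ∀ u, R u u := fun u => ⟨1, one_mem _, cjl_one u⟩
  have Rsymm : ∀ {u v}, R u v → R v u := by
    rintro u v ⟨t, ht, rfl⟩; exact ⟨t⁻¹, inv_mem ht, cjl_inv_cjl t u⟩
  have Rtrans : ∀ {u v w}, R u v → R v w → R u w := by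
    rintro u v w ⟨t, ht, rfl⟩ ⟨t', ht', rfl⟩; exact ⟨t' * t, mul_mem ht' ht, cjl_mul t' t u⟩
  have hAT : ∀ a ∈ A, ∀ t ∈ T, a * t * a⁻¹ ∈ T := fun a ha t ht =>
    ⟨⟨hA a ha t ht.1.1, Subgroup.mul_mem (clsStab H e) (Subgroup.mul_mem _ (hAse a ha) ht.1.2)
        (Subgroup.inv_mem _ (hAse a ha))⟩,
      Subgroup.mul_mem (clsStab H f) (Subgroup.mul_mem _ (hAsf a ha) ht.2) (Subgroup.inv_mem _ (hAsf a ha))⟩
  have Ract : ∀ a ∈ A, ∀ {u v}, R u v → R (cjl a u) (cjl a v) := by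
    rintro a ha u v ⟨t, ht, rfl⟩
    exact ⟨a * t * a⁻¹, hAT a ha t ht, by rw [← cjl_mul, ← cjl_mul]; congr 1; group⟩
  -- squares
  have hsq : ∀ w ∈ cls H e, ∀ g ∈ cls H f, Pair w g → w ≠ 0 → ∀ y ∈ cls H e, y ≠ 0 → R w (y * g * y) := by
    intro w hw g hg Rw hw0 y hy hy0
    obtain ⟨gy, hgy, hgym, Ry⟩ := hpart y hy hy0
    have hgm : IsMin H g := (cls_min hf hg (Rw.f_ne hw0)).1
    obtain ⟨hwm, -, -⟩ := cls_min he hw hw0
    obtain ⟨hym, -, -⟩ := cls_min he hy hy0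
    have swp : ∀ {u v}, IsMin H u → IsMin H v → u ∈ cls H e → v ∈ cls H f → ∀ Q : Pair u v,
        Q.w ∈ H ∧ (∀ h ∈ H, Q.w * h * Q.w⁻¹ ∈ H) ∧ (∀ z ∈ cls H e, cjl Q.w z ∈ cls H f) ∧
          ∀ z ∈ cls H f, cjl Q.w z ∈ cls H e := by
      intro u v hu hv hue hvf Q
      have hQ : Q.w ∈ H := Q.sl_mem hu.1 hv.1 _
      have hn : ∀ h ∈ H, Q.w * h * Q.w⁻¹ ∈ H := fun h hh => mul_mem (mul_mem hQ hh) (inv_mem hQ)
      refine ⟨hQ, hn, fun z hz => ?_, fun z hz => ?_⟩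
      · refine cls_cjl_eq hn hu hf ?_ z (by rw [cls_eq he hue hu.2.1]; exact hz)
        rw [show cjl Q.w u = -v from Q.w_e]; exact neg_mem hvf
      · refine cls_cjl_eq hn hv he ?_ z (by rw [cls_eq hf hvf hv.2.1]; exact hz)
        rw [show cjl Q.w v = -u from Q.w_f]; exact neg_mem hue
    obtain ⟨a1, a2, a3, a4⟩ := swp hwm hgm hw hg Rw
    obtain ⟨b1, b2, b3, b4⟩ := swp hym hgym hy hgy Ry
    have hn : ∀ h ∈ H, Ry.w * Rw.w * h * (Ry.w * Rw.w)⁻¹ ∈ H := fun h hh => by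
      rw [show Ry.w * Rw.w * h * (Ry.w * Rw.w)⁻¹ = Ry.w * (Rw.w * h * Rw.w⁻¹) * Ry.w⁻¹ by group]
      exact b2 _ (a2 h hh)
    refine ⟨Ry.w * Rw.w, ⟨⟨mul_mem b1 a1, (mem_clsStab he).2 ⟨hn, ?_⟩⟩, (mem_clsStab hf).2 ⟨hn, ?_⟩⟩, ?_⟩
    · rw [cjl_mul]; exact b4 _ (a3 e (self_mem_cls he.1))
    · rw [cjl_mul]; exact b3 _ (a4 f (self_mem_cls hf.1))
    · rw [cjl_mul, show cjl Rw.w w = -g from Rw.w_e]
      have h1 : g * gy = 0 := cls_mul hg hgy
      have h4 : gy * g = 0 := cls_mul hgy hg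
      rw [cjl, Ry.w_val, Ry.w_inv_val, hG.pr_eq_one hym Ry, sub_self, zero_add, zero_add]
      calc (y - gy) * -g * (gy - y) = y * g * y - y * (g * gy) + (gy * g) * (gy - y) := by noncomm_ring
        _ = _ := by rw [h1, h4, mul_zero, sub_zero, zero_mul, add_zero]
  -- there are at most two orbits
  classical
  have : Fintype (V →ₗ[ZMod p] V) := Fintype.ofFinite _
  let S : Finset (V →ₗ[ZMod p] V) := Finset.univ.filter fun y => y ∈ cls H e ∧ y ≠ 0
  have mS : ∀ {y}, y ∈ S ↔ y ∈ cls H e ∧ y ≠ 0 := by simp [S]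
  have hhalf : ∀ w ∈ S, S.card ≤ 2 * (S.filter fun v => R w v).card := by
    intro w hw
    obtain ⟨hw1, hw0⟩ := mS.1 hw
    obtain ⟨g, hg, hgm, Rw⟩ := hpart w hw1 hw0
    obtain ⟨hwm, -, -⟩ := cls_min he hw1 hw0
    refine (Finset.card_le_mul_card_image S 2 (f := fun y => y * g * y) fun b hb => ?_).trans
      (Nat.mul_le_mul_left 2 (Finset.card_le_card ?_))
    · obtain ⟨y, hy, rfl⟩ := Finset.mem_image.1 hb
      refine (Finset.card_le_card (t := ({y, -y} : Finset _)) fun y' hy' => ?_).trans Finset.card_le_two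
      obtain ⟨h1, h4⟩ := Finset.mem_filter.1 hy'
      simp only [Finset.mem_insert, Finset.mem_singleton]
      have hcls : cls H w = cls H e := cls_eq he hw1 hw0
      exact sq_inj hG h2 h3 hwm hgm Rw (hcls.symm ▸ (mS.1 hy).1) (hcls.symm ▸ (mS.1 h1).1) h4.symm
    · intro b hb
      obtain ⟨y, hy, rfl⟩ := Finset.mem_image.1 hb
      obtain ⟨hy1, hy0⟩ := mS.1 hy
      refine Finset.mem_filter.2 ⟨mS.2 ⟨sq_mem_cls hG h2 h3 he hf hef hg hy1, ?_⟩, hsq w hw1 g hg Rw hw0 y hy1 hy0⟩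
      obtain ⟨t, -, ht⟩ := hsq w hw1 g hg Rw hw0 y hy1 hy0
      exact fun e0 => hw0 (cjl_eq_zero (ht.trans e0))
  -- `A` fixes the orbit of `e`
  have hAS : ∀ a ∈ A, ∀ w ∈ S, cjl a w ∈ S := fun a ha w hw =>
    mS.2 ⟨cls_cjl_eq (hA a ha) he he (hAe a ha) w (mS.1 hw).1, fun e0 => (mS.1 hw).2 (cjl_eq_zero e0)⟩
  have heS : e ∈ S := mS.2 ⟨self_mem_cls he.1, he.2.1⟩
  have hfix : ∀ a ∈ A, R e (cjl a e) := by
    intro a ha
    by_contra hne
    set e' := cjl a e with he'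
    have htwo : ∀ w ∈ S, R e w ∨ R e' w := by
      intro w hw
      by_contra hcon
      push Not at hcon
      have hd1 : Disjoint (S.filter fun v => R e v) (S.filter fun v => R e' v) :=
        Finset.disjoint_filter.2 fun v _ h1 h4 => hne (Rtrans h1 (Rsymm h4))
      have hsub : (S.filter fun v => R e v) ∪ (S.filter fun v => R e' v) ⊆ S.erase w := by
        intro v hv
        rcases Finset.mem_union.1 hv with h | h <;> obtain ⟨h1, h4⟩ := Finset.mem_filter.1 h <;>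
          refine Finset.mem_erase.2 ⟨?_, h1⟩ <;> rintro rfl
        exacts [hcon.1 h4, hcon.2 h4]
      have := Finset.card_le_card hsub
      rw [Finset.card_union_of_disjoint hd1, Finset.card_erase_of_mem hw] at this
      have := hhalf e heS
      have := hhalf e' (hAS a ha e heS)
      have := Finset.card_pos.2 ⟨w, hw⟩
      omega
    have h2e : R e (cjl a e') := (htwo _ (hAS a ha _ (hAS a ha e heS))).resolve_right fun h => by
      have := Ract a⁻¹ (inv_mem ha) h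
      rw [he', cjl_inv_cjl, cjl_inv_cjl] at this
      exact hne this
    have hev : ∀ n, R e (cjl (a ^ (2 * n)) e) := by
      intro n
      induction n with
      | zero => rw [mul_zero, pow_zero, cjl_one]; exact Rrefl e
      | succ n ih =>
        refine Rtrans h2e ?_
        rw [he', ← cjl_mul, show 2 * (n + 1) = 2 + 2 * n by ring, pow_add, pow_two, cjl_mul (a * a) (a ^ (2 * n))]
        exact Ract _ (mul_mem ha ha) ih
    obtain ⟨m, hm⟩ := hodd
    have hord : a ^ (2 * m + 1) = 1 := by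
      rw [← hm]; exact congrArg Subtype.val (pow_card_eq_one' (x := (⟨a, ha⟩ : A)))
    have h4 := Ract a ha (hev m)
    rw [← cjl_mul, ← pow_succ', hord, cjl_one] at h4
    exact hne (Rsymm h4)
  obtain ⟨k, hk, hkA⟩ := exists_conj_mem hA hcop hsolv T (inf_le_left.trans inf_le_left) hAT
    (Subgroup.centralizer {tt e}) fun a ha => by
      obtain ⟨t, ht, hte⟩ := hfix a ha
      refine ⟨t, ht, Subgroup.mem_centralizer_singleton_iff.2 ?_⟩
      refine (tt_mul_eq_iff he.1.1).2 ?_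
      rw [cjl_mul, ← hte, cjl_inv_cjl]
  have hkn : ∀ h ∈ H, k⁻¹ * h * k⁻¹⁻¹ ∈ H := fun h hh =>
    mul_mem (mul_mem (inv_mem hk.1.1) hh) (inv_mem (inv_mem hk.1.1))
  set e₁ := cjl k⁻¹ e with he₁
  set f₁ := cjl k⁻¹ f with hf₁
  have he₁m : IsMin H e₁ := isMin_cjl hkn he
  have hf₁m : IsMin H f₁ := isMin_cjl hkn hf
  have hPe : Pair e₁ f₁ := P.cjl k⁻¹
  have hAe₁ : ∀ a ∈ A, cjl a e₁ = e₁ := by
    intro a ha
    have h1 := (tt_mul_eq_iff he.1.1).1 (Subgroup.mem_centralizer_singleton_iff.1 (hkA a ha))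
    rw [he₁]
    conv_rhs => rw [← h1, ← cjl_mul, show k⁻¹ * (k * a * k⁻¹) = a * k⁻¹ by group, cjl_mul]
  refine ⟨e₁, f₁, he₁m, hf₁m, hPe, hAe₁, fun a ha => ?_⟩
  have hf₁f : f₁ ∈ cls H f := ((mem_clsStab hf).1 (inv_mem hk.2)).2
  have Q : Pair e₁ (cjl a f₁) := by have := hPe.cjl a; rwa [hAe₁ a ha] at this
  exact pair_unique hG he₁m hf (cls_cjl_eq (hA a ha) hf hf ((mem_clsStab hf).1 (hAsf a ha)).2 _ hf₁f)
    hf₁f Q hPe

/-- A fixed pair gives a section `PSL₂(p)` of the centraliser. -/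
theorem involves_of_fixed_pair {F : Type*} [Field F] [Fintype F] (hF : Fintype.card F = p)
    {x y : V →ₗ[ZMod p] V} (hx : IsMin H x) (hy : IsMin H y) (P : Pair x y)
    (hAx : ∀ a ∈ A, cjl a x = x) (hAy : ∀ a ∈ A, cjl a y = y) :
    Cfsg.Involves (Matrix.ProjectiveSpecialLinearGroup (Fin 2) F)
      ↥(H ⊓ Subgroup.centralizer (A : Set (LinearMap.GeneralLinearGroup (ZMod p) V))) := by
  let ε : ZMod p ≃+* F := ZMod.ringEquivOfPrime F Fact.out hF
  have hc : ∀ {z : V →ₗ[ZMod p] V}, Fam H z → (∀ a ∈ A, cjl a z = z) → ∀ c : ZMod p,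
      tt (c • z) ∈ H ⊓ Subgroup.centralizer (A : Set (LinearMap.GeneralLinearGroup (ZMod p) V)) := by
    intro z hz hAz c
    refine ⟨hz.2 c, Subgroup.mem_centralizer_iff.2 fun a ha => (tt_mul_eq_iff (smul_sq hz.1 c)).2 ?_⟩
    rw [cjl, mul_smul_comm, smul_mul_assoc]
    exact congrArg _ (hAz a ha)
  let ψ : SL(2, F) →* ↥(H ⊓ Subgroup.centralizer (A : Set (LinearMap.GeneralLinearGroup (ZMod p) V))) :=
    (P.sl.comp (Matrix.SpecialLinearGroup.map ε.symm.toRingHom)).codRestrict _ fun M =>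
      P.sl_range_le _ (hc hx.1 hAx) (hc hy.1 hAy) _
  have hψ : Function.Injective ψ := by
    intro M N h
    have h1 := P.sl_injective hx.2.1 (congrArg Subtype.val h)
    refine Subtype.ext (Matrix.ext fun i j => ε.symm.injective ?_)
    have := congrArg (fun G : SL(2, ZMod p) => G.1 i j) h1
    exact this
  exact CfsgLib.LocalEven.Involved.involves_of_hom ψ.range
    ((QuotientGroup.mk' _).comp (MonoidHom.ofInjective hψ).symm.toMonoidHom)
    ((QuotientGroup.mk'_surjective _).comp (MonoidHom.ofInjective hψ).symm.surjective)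

end CfsgLib.QuadFixed
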