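import Cfsg.Agent.Lib.Quadratic.Pair
import Cfsg.Agent.Lib.Quadratic.UnipotentPairs

/-!
A pair `e, f` of square-zero maps with `e f e = e` and `f e f = f`: the copy of `SL₂(k)` it spans, its
central involution `1 - 2 (e f + f e)`, and the transitivity of the class of `e` on the classes opposite
to it.
-/

set_option autoImplicit false

namespace CfsgLib.QuadFixed

open CfsgLib.Quadratic Matrix
open scoped MatrixGroups

variable {k : Type*} [Field k] {M : Type*} [AddCommGroup M] [Module k M]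
variable {G : Subgroup (LinearMap.GeneralLinearGroup k M)} {e f : M →ₗ[k] M}

/-- A pair of square-zero maps inverting each other. -/
structure Pair (e f : M →ₗ[k] M) : Prop where
  ee : e * e = 0
  ff : f * f = 0
  efe : e * f * e = e
  fef : f * e * f = f

variable (e f) in
/-- The projection on the plane. -/
def pr : M →ₗ[k] M := e * f + f * e

variable (e f) in
/-- A matrix acting on the plane. -/
def emb (A : Matrix (Fin 2) (Fin 2) k) : M →ₗ[k] M :=
  A 0 0 • (e * f) + A 0 1 • e + A 1 0 • f + A 1 1 • (f * e)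

theorem emb_one : emb e f 1 = pr e f := by simp [emb, pr]

namespace Pair

variable (P : Pair e f)
include P

theorem emb_mul (A B : Matrix (Fin 2) (Fin 2) k) : emb e f (A * B) = emb e f A * emb e f B := by
  have h1 : e * f * (e * f) = e * f := by rw [← mul_assoc, P.efe]
  have h2 : e * f * f = 0 := by rw [mul_assoc, P.ff, mul_zero]
  have h3 : e * f * (f * e) = 0 := by rw [← mul_assoc, h2, zero_mul]
  have h4 : e * (e * f) = 0 := by rw [← mul_assoc, P.ee, zero_mul]
  have h5 : e * (f * e) = e := by rw [← mul_assoc, P.efe]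
  have h6 : f * (e * f) = f := by rw [← mul_assoc, P.fef]
  have h7 : f * (f * e) = 0 := by rw [← mul_assoc, P.ff, zero_mul]
  have h8 : f * e * e = 0 := by rw [mul_assoc, P.ee, mul_zero]
  have h9 : f * e * (e * f) = 0 := by rw [← mul_assoc, h8, zero_mul]
  have h10 : f * e * (f * e) = f * e := by rw [← mul_assoc, P.fef]
  simp only [emb, add_mul, mul_add, smul_mul_assoc, mul_smul_comm, h1, h2, h3, h4, h5, h6,
    h7, h8, h9, h10, P.ee, P.ff, P.efe, P.fef, Matrix.mul_apply, Fin.sum_univ_two, smul_zero,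
    add_smul]
  module

theorem pr_sq : pr e f * pr e f = pr e f := by rw [← emb_one, ← P.emb_mul, mul_one]

theorem pr_left (A : Matrix (Fin 2) (Fin 2) k) : pr e f * emb e f A = emb e f A := by
  rw [← emb_one, ← P.emb_mul, one_mul]

theorem pr_right (A : Matrix (Fin 2) (Fin 2) k) : emb e f A * pr e f = emb e f A := by
  rw [← emb_one, ← P.emb_mul, mul_one]

theorem pr_e : pr e f * e = e := by rw [pr, add_mul, P.efe, mul_assoc, P.ee, mul_zero, add_zero]

theorem e_pr : e * pr e f = e := by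
  rw [pr, mul_add, ← mul_assoc, P.ee, zero_mul, zero_add, ← mul_assoc, P.efe]

theorem pr_f : pr e f * f = f := by rw [pr, add_mul, mul_assoc, P.ff, mul_zero, zero_add, P.fef]

theorem f_pr : f * pr e f = f := by
  rw [pr, mul_add, ← mul_assoc f f, P.ff, zero_mul, add_zero, ← mul_assoc, P.fef]

theorem symm : Pair f e := ⟨P.ff, P.ee, P.fef, P.efe⟩

theorem smul {c : k} (hc : c ≠ 0) : Pair (c • e) (c⁻¹ • f) where
  ee := by rw [smul_mul_smul_comm, P.ee, smul_zero]
  ff := by rw [smul_mul_smul_comm, P.ff, smul_zero]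
  efe := by
    rw [smul_mul_smul_comm, smul_mul_smul_comm, P.efe, mul_inv_cancel₀ hc, one_mul]
  fef := by
    rw [smul_mul_smul_comm, smul_mul_smul_comm, P.fef, inv_mul_cancel₀ hc, one_mul]

/-- The copy of `SL₂`. -/
noncomputable def sl : SL(2, k) →* LinearMap.GeneralLinearGroup k M :=
  MonoidHom.toHomUnits
    { toFun := fun A => 1 - pr e f + emb e f A.1
      map_one' := by
        show 1 - pr e f + emb e f (1 : Matrix (Fin 2) (Fin 2) k) = 1
        rw [emb_one, sub_add_cancel]
      map_mul' := fun A B => by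
        show 1 - pr e f + emb e f (A.1 * B.1) = _
        rw [P.emb_mul]
        simp only [add_mul, sub_mul, mul_add, mul_sub, one_mul, mul_one, P.pr_sq, P.pr_left, P.pr_right]
        abel }

theorem sl_val (A : SL(2, k)) : (P.sl A).1 = 1 - pr e f + emb e f A.1 := rfl

theorem sl_up (c : k) : P.sl (RingSL2.U c) = tt (c • e) := by
  refine Units.ext ?_
  rw [P.sl_val, tt_val (smul_sq P.ee c)]
  simp [emb, pr, RingSL2.U]
  abel

theorem sl_low (c : k) : P.sl (RingSL2.L c) = tt (c • f) := by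
  refine Units.ext ?_
  rw [P.sl_val, tt_val (smul_sq P.ff c)]
  simp [emb, pr, RingSL2.L]
  abel

end Pair

/-- `SL₂` is generated by the two unitriangular groups. -/
theorem sl2_mem (K : Subgroup SL(2, k)) (hU : ∀ c, RingSL2.U c ∈ K) (hL : ∀ c, RingSL2.L c ∈ K)
    (A : SL(2, k)) : A ∈ K := by
  have key : ∀ B : SL(2, k), B.1 1 0 ≠ 0 → B ∈ K := by
    intro B hc
    have hd : B.1 0 0 * B.1 1 1 - B.1 0 1 * B.1 1 0 = 1 := (Matrix.det_fin_two B.1).symm.trans B.2
    have e : B = RingSL2.U ((B.1 0 0 - 1) / B.1 1 0) * RingSL2.L (B.1 1 0) *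
        RingSL2.U ((B.1 1 1 - 1) / B.1 1 0) := by
      refine RingSL2.ext ?_ ?_ ?_ ?_ <;>
        simp only [RingSL2.mul_00, RingSL2.mul_01, RingSL2.mul_10, RingSL2.mul_11, RingSL2.U_00,
          RingSL2.U_01, RingSL2.U_10, RingSL2.U_11, RingSL2.L_00, RingSL2.L_01, RingSL2.L_10,
          RingSL2.L_11] <;> field_simp <;> first | linear_combination -hd | linear_combination hd | ring
    rw [e]
    exact mul_mem (mul_mem (hU _) (hL _)) (hU _)
  by_cases hc : A.1 1 0 = 0
  · have hd : A.1 0 0 * A.1 1 1 - A.1 0 1 * A.1 1 0 = 1 := (Matrix.det_fin_two A.1).symm.trans A.2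
    have ha : (RingSL2.L 1 * A).1 1 0 ≠ 0 := by
      simp only [RingSL2.mul_10, RingSL2.L_10,
        RingSL2.L_11, one_mul, hc, add_zero]
      intro h
      rw [h, hc] at hd
      simp at hd
    exact (Subgroup.mul_mem_cancel_left K (hL 1)).1 (key _ ha)
  · exact key A hc

/-- The Weyl element. -/
def wSL : SL(2, k) := ⟨!![0, 1; -1, 0], by simp [det_fin_two]⟩

/-- A diagonal element. -/
def diagSL (c : kˣ) : SL(2, k) := ⟨!![(c : k), 0; 0, ((c⁻¹ : kˣ) : k)], by simp [det_fin_two]⟩

/-- Minus one. -/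
def negSL : SL(2, k) := ⟨!![-1, 0; 0, -1], by simp [det_fin_two]⟩

namespace Pair

variable (P : Pair e f)
include P

theorem sl_range_le (K : Subgroup (LinearMap.GeneralLinearGroup k M)) (hU : ∀ c : k, tt (c • e) ∈ K)
    (hL : ∀ c : k, tt (c • f) ∈ K) (A : SL(2, k)) : P.sl A ∈ K :=
  sl2_mem (K.comap P.sl) (fun c => by rw [Subgroup.mem_comap, P.sl_up]; exact hU c)
    (fun c => by rw [Subgroup.mem_comap, P.sl_low]; exact hL c) A

theorem sl_mem (he : Fam G e) (hf : Fam G f) (A : SL(2, k)) : P.sl A ∈ G :=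
  P.sl_range_le G he.2 hf.2 A

theorem f_ne (he : e ≠ 0) : f ≠ 0 := fun h => he (by rw [← P.efe, h]; simp)

theorem sl_injective (he : e ≠ 0) : Function.Injective P.sl := by
  intro A B h
  have h' : emb e f A.1 = emb e f B.1 := by
    have := congrArg Units.val h
    rw [P.sl_val, P.sl_val] at this
    exact add_left_cancel this
  have hf := P.f_ne he
  have hA : ∀ (C : Matrix (Fin 2) (Fin 2) k),
      e * emb e f C * e = C 1 0 • e ∧ f * emb e f C * f = C 0 1 • f ∧
        e * emb e f C * f = C 1 1 • (e * f) ∧ f * emb e f C * e = C 0 0 • (f * e) := by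
    intro C
    have a1 : e * (e * f) = 0 := by rw [← mul_assoc, P.ee, zero_mul]
    have a2 : f * (f * e) = 0 := by rw [← mul_assoc, P.ff, zero_mul]
    have a3 : e * (f * e) = e := by rw [← mul_assoc, P.efe]
    have a4 : f * (e * f) = f := by rw [← mul_assoc, P.fef]
    have a5 : e * f * f = 0 := by rw [mul_assoc, P.ff, mul_zero]
    have a6 : f * e * e = 0 := by rw [mul_assoc, P.ee, mul_zero]
    simp [emb, mul_add, add_mul, a1, a2, a3, a4, a5, a6, P.ee, P.ff, P.efe, P.fef]
  have hef : e * f ≠ 0 := fun h0 => he (by rw [← P.efe, h0, zero_mul])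
  have hfe : f * e ≠ 0 := fun h0 => hf (by rw [← P.fef, h0, zero_mul])
  obtain ⟨a1, a2, a3, a4⟩ := hA A.1
  obtain ⟨b1, b2, b3, b4⟩ := hA B.1
  rw [h'] at a1 a2 a3 a4
  exact RingSL2.ext (smul_left_injective k hfe (a4.symm.trans b4)) (smul_left_injective k hf (a2.symm.trans b2))
    (smul_left_injective k he (a1.symm.trans b1)) (smul_left_injective k hef (a3.symm.trans b3))

/-- The swap. -/
noncomputable def w : LinearMap.GeneralLinearGroup k M := P.sl wSL

theorem w_val : P.w.1 = 1 - pr e f + (e - f) := by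
  rw [w, P.sl_val]; simp [emb, wSL]; abel

theorem w_inv_val : P.w⁻¹.1 = 1 - pr e f + (f - e) := by
  rw [w, ← map_inv, P.sl_val]
  simp only [emb, RingSL2.inv_00, RingSL2.inv_01, RingSL2.inv_10, RingSL2.inv_11]
  simp [wSL]
  abel

theorem w_e : P.w.1 * e * P.w⁻¹.1 = -f := by
  rw [P.w_val, P.w_inv_val]
  simp only [add_mul, sub_mul, mul_add, mul_sub, one_mul, mul_one, P.pr_e, P.e_pr, P.ee, P.fef,
    mul_assoc f e (pr e f)]
  simp [mul_assoc f e e, P.ee]

theorem w_f : P.w.1 * f * P.w⁻¹.1 = -e := by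
  rw [P.w_val, P.w_inv_val]
  simp only [add_mul, sub_mul, mul_add, mul_sub, one_mul, mul_one, P.pr_f, P.f_pr, P.ff, P.efe,
    mul_assoc e f (pr e f)]
  simp [mul_assoc e f f, P.ff]

/-- The central involution. -/
noncomputable def inv : LinearMap.GeneralLinearGroup k M := P.sl negSL

theorem inv_val : P.inv.1 = 1 - (pr e f + pr e f) := by
  rw [inv, P.sl_val]; simp [emb, negSL, pr]; abel

theorem inv_sq : P.inv * P.inv = 1 := by
  rw [inv, ← map_mul, ← map_one P.sl]
  congr 1
  refine RingSL2.ext ?_ ?_ ?_ ?_ <;>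
    simp only [RingSL2.mul_00, RingSL2.mul_01, RingSL2.mul_10, RingSL2.mul_11] <;> simp [negSL]

theorem inv_e : P.inv.1 * e = -e ∧ e * P.inv.1 = -e := by
  rw [P.inv_val]
  constructor
  · rw [sub_mul, add_mul, P.pr_e, one_mul]; abel
  · rw [mul_sub, mul_add, P.e_pr, mul_one]; abel

theorem inv_f : P.inv.1 * f = -f ∧ f * P.inv.1 = -f := by
  rw [P.inv_val]
  constructor
  · rw [sub_mul, add_mul, P.pr_f, one_mul]; abel
  · rw [mul_sub, mul_add, P.f_pr, mul_one]; abel

theorem inv_ne_one (h2 : (2 : k) ≠ 0) (he : e ≠ 0) : P.inv ≠ 1 := by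
  intro h
  have h1 := P.inv_e.1
  rw [h, Units.val_one, one_mul, eq_neg_iff_add_eq_zero, ← two_smul k] at h1
  exact he ((smul_eq_zero.1 h1).resolve_left h2)

end Pair

end CfsgLib.QuadFixed
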