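import Cfsg.Agent.Lib.QuadFixed.Key
import Cfsg.Agent.Lib.PLocal.PStableQuot
import Cfsg.Agent.Lib.PLocal5.Quadratic

/-!
Coprime action and `p`-stability: if the fixed points of a group of order prime to `|K|` do not involve
`PSL₂(p)`, quadratic elements act stably on the normal `p`-subgroups of the semidirect product.
-/

set_option autoImplicit false

namespace CfsgLib.QuadFixed

open CfsgLib.Quadratic CfsgLib.PLocal
open scoped commutatorElement

universe u

variable {p : ℕ} [Fact p.Prime] {F : Type*} [Field F] [Fintype F] (hF : Fintype.card F = p) (hp5 : 5 ≤ p)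
variable {L : Type u} [Group L] [Finite L]

/-- A minimal normal `p`-subgroup is elementary abelian. -/
theorem elemAb_of_minimal (Q : Subgroup L) [hQn : Q.Normal] (hQ : IsPGroup p Q)
    (hmin : ∀ R : Subgroup L, R.Normal → R ≤ Q → R = ⊥ ∨ R = Q) : Cfsg.IsElementaryAbelian p Q := by
  rcases eq_or_ne Q ⊥ with rfl | hQ0
  · exact ⟨⟨⟨fun a b => Subtype.ext ((Subgroup.mem_bot.1 (a * b).2).trans (Subgroup.mem_bot.1 (b * a).2).symm)⟩⟩,
      fun a ha => by rw [Subgroup.mem_bot.1 ha, one_pow]⟩
  haveI : Group.IsNilpotent Q := hQ.isNilpotent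
  haveI : Nontrivial Q := (Subgroup.nontrivial_iff_ne_bot Q).mpr hQ0
  have hd : ⁅Q, Q⁆ = ⊥ := (hmin _ inferInstance Q.commutator_le_self).resolve_right fun h => by
    have h1 : commutator Q < ⊤ := IsSolvable.commutator_lt_top_of_nontrivial Q
    apply h1.ne
    apply Subgroup.map_injective Q.subtype_injective
    rw [Subgroup.map_subtype_commutator, h, ← MonoidHom.range_eq_map, Subgroup.range_subtype]
  have hc : IsMulCommutative Q := Subgroup.commutator_self_eq_bot_iff.1 hd
  refine ⟨hc, ?_⟩
  let : CommGroup Q := { (inferInstance : Group Q) with mul_comm := hc.is_comm.comm }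
  let R := (powMonoidHom p : Q →* Q).range.map Q.subtype
  have hRn : R.Normal := ⟨by
    rintro _ ⟨_, ⟨y, rfl⟩, rfl⟩ g
    refine ⟨_, ⟨⟨g * y * g⁻¹, hQn.conj_mem _ y.2 g⟩, rfl⟩, ?_⟩
    simp [conj_pow]⟩
  intro a ha
  rcases hmin R hRn (Subgroup.map_subtype_le _) with h | h
  · have : (⟨a, ha⟩ : Q).1 ^ p ∈ R := ⟨_, ⟨⟨a, ha⟩, rfl⟩, rfl⟩
    rwa [h, Subgroup.mem_bot] at this
  · exfalso
    have hsurj : Function.Surjective (powMonoidHom p : Q →* Q) := by
      intro y
      obtain ⟨z, hz, hzy⟩ := h.ge y.2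
      obtain ⟨w, rfl⟩ := hz
      exact ⟨w, Subtype.ext hzy⟩
    obtain ⟨n, hn⟩ := IsPGroup.iff_card.1 hQ
    have hdvd : p ∣ Nat.card Q := by
      rw [hn]
      refine dvd_pow_self p fun h0 => ?_
      rw [h0, pow_zero] at hn
      exact absurd hn (Finite.one_lt_card (α := Q)).ne'
    obtain ⟨z, hz⟩ := exists_prime_orderOf_dvd_card' p hdvd
    have h1 : z = 1 := (Finite.injective_iff_surjective.2 hsurj) (by
      show z ^ p = 1 ^ p
      rw [one_pow, ← hz, pow_orderOf_eq_one])
    rw [h1, orderOf_one] at hz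
    exact (Fact.out : p.Prime).ne_one hz.symm

variable (K B : Subgroup L) [K.Normal] (hcop : (Nat.card B).Coprime (Nat.card K)) (hKB : K ⊔ B = ⊤)
  (hC : ¬ Cfsg.Involves (Matrix.ProjectiveSpecialLinearGroup (Fin 2) F)
    ↥(K ⊓ Subgroup.centralizer (B : Set L)))

include hF hp5 hcop hKB hC in
/-- An irreducible `𝔽_p`-representation of `L` maps quadratic elements of `K` to `1`. -/
theorem trivial_of_irreducible {V : Type u} [AddCommGroup V] [Finite V] [Module (ZMod p) V]
    (f : L → V →+ V) (h1 : ∀ v, f 1 v = v) (h2 : ∀ g h v, f (g * h) v = f g (f h v))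
    (hirr : ∀ W : AddSubgroup V, (∀ g, ∀ v ∈ W, f g v ∈ W) → W = ⊥ ∨ W = ⊤) {a : L} (haK : a ∈ K)
    (hsq : ∀ v, f a (f a v - v) = f a v - v) (v : V) : f a v = v := by
  let ρ₀ : L →* Module.End (ZMod p) V :=
    { toFun := fun g => (f g).toZModLinearMap p
      map_one' := LinearMap.ext h1
      map_mul' := fun g h => LinearMap.ext (h2 g h) }
  let ρ : L →* LinearMap.GeneralLinearGroup (ZMod p) V := ρ₀.toHomUnits
  set H := K.map ρ with hH
  set A := B.map ρ with hA'
  have hA : ∀ x ∈ A, ∀ h ∈ H, x * h * x⁻¹ ∈ H := by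
    rintro _ ⟨b, -, rfl⟩ _ ⟨k, hk, rfl⟩
    exact ⟨b * k * b⁻¹, Subgroup.Normal.conj_mem ‹K.Normal› k hk b, by simp⟩
  have hirr' : ∀ W : Submodule (ZMod p) V, (∀ g ∈ H, ∀ v ∈ W, g.1 v ∈ W) →
      (∀ g ∈ A, ∀ v ∈ W, g.1 v ∈ W) → W = ⊥ ∨ W = ⊤ := by
    intro W hWH hWA
    have hall : ∀ g : L, ρ g ∈ stabW W := by
      have hle : K ⊔ B ≤ (stabW W).comap ρ :=
        sup_le (fun g hg => mem_stabW (hWH _ ⟨g, hg, rfl⟩)) (fun g hg => mem_stabW (hWA _ ⟨g, hg, rfl⟩))
      exact fun g => hle (hKB ▸ Subgroup.mem_top g)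
    rcases hirr W.toAddSubgroup (fun g v hv => (hall g).1 v hv) with h | h
    · exact Or.inl (Submodule.toAddSubgroup_injective (h.trans (by rfl)))
    · exact Or.inr (Submodule.toAddSubgroup_injective (h.trans (by rfl)))
  have hsq' : ((ρ a).1 - 1) * ((ρ a).1 - 1) = 0 := LinearMap.ext fun v => by
    show f a (f a v - v) - (f a v - v) = 0
    rw [hsq, sub_self]
  by_contra hne
  have hnt : ρ a ≠ 1 := fun e => hne (LinearMap.congr_fun (congrArg Units.val e) v)
  have hbad : Bad H := by
    have e : tt ((ρ a).1 - 1) = ρ a := Units.ext (by rw [tt_val hsq', add_sub_cancel])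
    refine ⟨_, hsq', by rw [e]; exact ⟨a, haK, rfl⟩, fun hm => hnt ?_⟩
    rw [pCore_eq_bot_of_irreducible H A hA hirr', Subgroup.mem_bot] at hm
    rw [← e]; exact congrArg Subtype.val hm
  have hBK : B ≤ Subgroup.normalizer (K : Set L) := by
    rw [Subgroup.normalizer_eq_top K]; exact le_top
  have hinv := key hF hp5 _ H A le_rfl hA
    ((hcop.coprime_dvd_left (B.card_map_dvd ρ)).coprime_dvd_right (K.card_map_dvd ρ)) hbad
  rw [hH, hA', ← CfsgLib.Coprime.map_inf_centralizer ρ B K hBK hcop (solvable_of_coprime B K hcop)] at hinv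
  exact hC (CfsgLib.LocalEven.Involved.involves_of_surjective (ρ.subgroupMap _)
    (ρ.subgroupMap_surjective _) hinv)

include hF hp5 hcop hKB hC in
/-- The chief factor step: a quadratic `p`-element of `K` centralises a minimal normal `p`-subgroup of a
quotient. -/
theorem centralizes_chief {L' : Type u} [Group L'] [Finite L'] (π : L →* L') (hπ : Function.Surjective π)
    (Q : Subgroup L') [hQn : Q.Normal] (hQ : IsPGroup p Q)
    (hmin : ∀ R : Subgroup L', R.Normal → R ≤ Q → R = ⊥ ∨ R = Q) {a : L} (haK : a ∈ K)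
    (hquad : ⁅⁅Q, Subgroup.zpowers (π a)⁆, Subgroup.zpowers (π a)⁆ = ⊥) :
    π a ∈ Subgroup.centralizer (Q : Set L') := by
  have hel := elemAb_of_minimal Q hQ hmin
  letI : CommGroup Q := { (inferInstance : Group Q) with mul_comm := hel.1.is_comm.comm }
  letI : Module (ZMod p) (Additive Q) := AddCommGroup.zmodModule fun x =>
    Additive.toMul.injective (Subtype.ext (hel.2 _ (Additive.toMul x).2))
  have : Finite (Additive Q) := Finite.of_equiv Q Additive.ofMul
  let act : L → Additive Q →+ Additive Q := fun g => MonoidHom.toAdditive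
    { toFun := fun v => ⟨π g * v * (π g)⁻¹, hQn.conj_mem _ v.2 _⟩
      map_one' := Subtype.ext (by simp)
      map_mul' := fun v w => Subtype.ext (by simp [mul_assoc]) }
  have kk : ∀ g v, ((Additive.toMul (act g v) : Q) : L') = π g * (Additive.toMul v : Q) * (π g)⁻¹ :=
    fun g v => rfl
  have ext' : ∀ {u v : Additive Q}, ((Additive.toMul u : Q) : L') = (Additive.toMul v : Q) → u = v :=
    fun h => Additive.toMul.injective (Subtype.ext h)
  have key' := trivial_of_irreducible hF hp5 K B hcop hKB hC (V := Additive Q) act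
    (fun v => ext' (by rw [kk]; simp)) (fun g h v => ext' (by rw [kk, kk, kk]; simp [mul_assoc]))
    (fun W hW => by
      let R : Subgroup L' := (W.toSubgroup').map Q.subtype
      have hmemR : ∀ v : Additive Q, ((Additive.toMul v : Q) : L') ∈ R ↔ v ∈ W := by
        intro v
        constructor
        · rintro ⟨u, hu, e⟩
          have : u = Additive.toMul v := Subtype.ext e
          subst this
          exact hu
        · exact fun h => ⟨_, h, rfl⟩
      have hRn : R.Normal := ⟨by
        rintro _ ⟨u, hu, rfl⟩ g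
        obtain ⟨g, rfl⟩ := hπ g
        exact (hmemR (act g (Additive.ofMul u))).2 (hW g _ hu)⟩
      rcases hmin R hRn (Subgroup.map_subtype_le _) with h | h
      · refine Or.inl (eq_bot_iff.2 fun v hv => ?_)
        have := (hmemR v).2 hv
        rw [h, Subgroup.mem_bot] at this
        exact AddSubgroup.mem_bot.2 (ext' this)
      · refine Or.inr (eq_top_iff.2 fun v _ => (hmemR v).1 ?_)
        rw [h]; exact (Additive.toMul v).2) haK ?_
  · refine Subgroup.mem_centralizer_iff.2 fun v hv => ?_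
    have := congrArg (fun z => ((Additive.toMul z : Q) : L')) (key' (Additive.ofMul ⟨v, hv⟩))
    simp only [kk] at this
    exact (mul_inv_eq_iff_eq_mul.1 this).symm
  · intro v
    refine ext' ?_
    rw [kk, toMul_sub, div_eq_mul_inv, Subgroup.coe_mul, Subgroup.coe_inv, kk]
    have e : π a * (Additive.toMul v : Q) * (π a)⁻¹ * ((Additive.toMul v : Q) : L')⁻¹ =
        ⁅((Additive.toMul v : Q) : L'), π a⁆⁻¹ := by rw [commutatorElement_def]; group
    have := CfsgLib.Quadratic.quadratic_commute hquad (Additive.toMul v : Q).2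
      (Subgroup.mem_zpowers (π a)) (Subgroup.mem_zpowers (π a))
    rw [e, (show Commute (π a) _ from this).inv_right.eq, mul_inv_cancel_right]

include hF hp5 hcop hKB hC in
/-- Stability on the normal `p`-subgroups of `L`. -/
theorem isPStableOn_of_coprime (hp : ¬ p ∣ Nat.card B) (Q : Subgroup L) [Q.Normal] (hQ : IsPGroup p Q) :
    Cfsg.IsPStableOn p Q := by
  refine isPStableOn_of_pElements hQ fun a ⟨k, hk⟩ hquad => ?_
  have haK : a ∈ K := by
    have hdvd : orderOf (QuotientGroup.mk' K a) ∣ Nat.card B := by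
      have hs : Function.Surjective ((QuotientGroup.mk' K).comp B.subtype) := by
        intro y
        obtain ⟨g, rfl⟩ := QuotientGroup.mk'_surjective K y
        obtain ⟨x, hx, b, hb, rfl⟩ := Subgroup.mem_sup_of_normal_left.1 (hKB ▸ Subgroup.mem_top g)
        refine ⟨⟨b, hb⟩, ?_⟩
        rw [map_mul, show QuotientGroup.mk' K x = 1 from (QuotientGroup.eq_one_iff x).2 hx, one_mul]
        rfl
      exact (orderOf_dvd_natCard _).trans (Subgroup.card_dvd_of_surjective _ hs)
    have h1 : orderOf (QuotientGroup.mk' K a) ∣ p ^ k := hk ▸ orderOf_map_dvd _ a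
    exact (QuotientGroup.eq_one_iff a).1 (orderOf_eq_one_iff.1 (Nat.eq_one_of_dvd_coprimes
      ((((Fact.out : p.Prime).coprime_iff_not_dvd.2 hp).pow_left k)) h1 hdvd))
  clear hk k
  induction hn : Nat.card Q using Nat.strong_induction_on generalizing Q with
  | _ n ih =>
  subst hn
  rcases eq_or_ne Q ⊥ with rfl | hQ0
  · refine centralizer_le_stabD p _ (Subgroup.mem_centralizer_iff.2 fun v hv => ?_)
    rw [Subgroup.mem_bot.1 hv, one_mul, mul_one]
  obtain ⟨R, ⟨hRn, hRQ⟩, hmax⟩ := (Set.toFinite {R : Subgroup L | R.Normal ∧ R < Q}).exists_maximalFor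
    (fun R => R) _ ⟨⊥, inferInstance, bot_lt_iff_ne_bot.2 hQ0⟩
  have hRp : IsPGroup p R := hQ.to_le hRQ.le
  have haR := ih (Nat.card R) (lt_of_not_ge fun h => hRQ.ne (Subgroup.eq_of_le_of_card_ge hRQ.le h)) R hRp
    (le_bot_iff.1 ((Subgroup.commutator_mono (Subgroup.commutator_mono hRQ.le le_rfl) le_rfl).trans hquad.le))
    rfl
  set π := QuotientGroup.mk' R with hπ
  have hπs : Function.Surjective π := QuotientGroup.mk'_surjective R
  have hQn : (Q.map π).Normal := Subgroup.Normal.map ‹Q.Normal› π hπs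
  have hmin : ∀ T : Subgroup (L ⧸ R), T.Normal → T ≤ Q.map π → T = ⊥ ∨ T = Q.map π := by
    intro T hT hTQ
    have hle : T.comap π ≤ Q := by
      refine (Subgroup.comap_mono hTQ).trans ?_
      rw [Subgroup.comap_map_eq, hπ, QuotientGroup.ker_mk']
      exact sup_le le_rfl hRQ.le
    have hRT : R ≤ T.comap π := by
      intro r hr
      rw [Subgroup.mem_comap, hπ, QuotientGroup.mk'_apply, (QuotientGroup.eq_one_iff r).2 hr]
      exact one_mem T
    rcases eq_or_lt_of_le hle with h | h
    · right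
      rw [← h, Subgroup.map_comap_eq_self_of_surjective hπs]
    · left
      have : T.comap π = R := le_antisymm (hmax ⟨hT.comap π, h⟩ hRT) hRT
      rw [← Subgroup.map_comap_eq_self_of_surjective hπs T, this, hπ, QuotientGroup.map_mk'_self]
  have hcz := centralizes_chief hF hp5 K B hcop hKB hC π hπs (Q.map π) (hQ.map π) hmin haK (by
    rw [← MonoidHom.map_zpowers, ← Subgroup.map_commutator, ← Subgroup.map_commutator, hquad,
      Subgroup.map_bot])
  -- the stabiliser of the series
  set D := stabD p R ⊓ (Subgroup.centralizer ((Q.map π : Subgroup (L ⧸ R)) : Set (L ⧸ R))).comap π with hD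
  have hDn : D.Normal := by
    haveI := stabD_normal (G := L) p R
    haveI := hQn
    infer_instance
  have hpel : ∀ d ∈ D, (orderOf d).Coprime p → d ∈ Subgroup.centralizer (Q : Set L) := by
    intro d hd hcopd
    have hdR : d ∈ Subgroup.centralizer (R : Set L) := by
      obtain ⟨m, hm⟩ := CfsgLib.PCore.pCore_isPGroup ⟨_, hd.1⟩
      have hm' : orderOf (QuotientGroup.mk' (Subgroup.centralizer (R : Set L)) d) ∣ p ^ m :=
        orderOf_dvd_of_pow_eq_one (congrArg Subtype.val hm)
      exact (QuotientGroup.eq_one_iff d).1 (orderOf_eq_one_iff.1 (Nat.eq_one_of_dvd_coprimes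
        (hcopd.pow_right m) (orderOf_map_dvd (QuotientGroup.mk' (Subgroup.centralizer (R : Set L))) d) hm'))
    have h1 : ⁅Q, Subgroup.zpowers d⁆ ≤ R := by
      refine Subgroup.commutator_le.2 fun x hx y hy => ?_
      obtain ⟨i, rfl⟩ := Subgroup.mem_zpowers_iff.1 hy
      rw [← QuotientGroup.eq_one_iff, ← QuotientGroup.mk'_apply, map_commutatorElement,
        commutatorElement_eq_one_iff_mul_comm]
      have := Subgroup.mem_centralizer_iff.1 (Subgroup.zpow_mem _ hd.2 i) (π x) ⟨x, hx, rfl⟩
      exact this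
    have h2 : ⁅⁅Q, Subgroup.zpowers d⁆, Subgroup.zpowers d⁆ = ⊥ := by
      refine le_bot_iff.1 ((Subgroup.commutator_mono h1 le_rfl).trans ?_)
      rw [le_bot_iff, Subgroup.commutator_comm, Subgroup.commutator_eq_bot_iff_le_centralizer]
      exact Subgroup.zpowers_le.2 hdR
    have hco : (Nat.card (Subgroup.zpowers d)).Coprime (Nat.card Q) := by
      obtain ⟨n, hn⟩ := IsPGroup.iff_card.mp hQ
      rw [hn, Nat.card_zpowers]
      exact hcopd.pow_right n
    have : Group.IsNilpotent Q := hQ.isNilpotent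
    have h3 := CfsgLib.Coprime.commutator_eq_bot_of_commutator_commutator_eq_bot (Subgroup.zpowers d) Q
      (by rw [Subgroup.normalizer_eq_top Q]; exact le_top) hco (Or.inr inferInstance) h2
    rw [Subgroup.commutator_comm, Subgroup.commutator_eq_bot_iff_le_centralizer] at h3
    exact h3 (Subgroup.mem_zpowers _)
  have himg : IsPGroup p (D.map (QuotientGroup.mk' (Subgroup.centralizer (Q : Set L)))) := by
    rintro ⟨_, d, hd, rfl⟩
    obtain ⟨m, l, hl, hord⟩ := Nat.exists_eq_pow_mul_and_not_dvd (orderOf_pos d).ne' p (Fact.out : p.Prime).ne_one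
    refine ⟨m, Subtype.ext ?_⟩
    show (QuotientGroup.mk' (Subgroup.centralizer (Q : Set L)) d) ^ p ^ m = 1
    rw [← map_pow]
    refine (QuotientGroup.eq_one_iff _).2 (hpel _ (pow_mem hd _) ?_)
    rw [orderOf_pow, hord, Nat.gcd_mul_right_left,
      Nat.mul_div_cancel_left _ (pow_pos (Fact.out : p.Prime).pos m)]
    exact ((Fact.out : p.Prime).coprime_iff_not_dvd.2 hl).symm
  have hle := CfsgLib.PCore.le_pCore (hDn.map _ (QuotientGroup.mk'_surjective _)) himg
  exact hle ⟨a, Subgroup.mem_inf.2 ⟨haR, hcz⟩, rfl⟩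

end CfsgLib.QuadFixed

namespace CfsgLib.QuadFixed

open CfsgLib.PLocal

universe u'

variable {p : ℕ} [Fact p.Prime] {F : Type*} [Field F] [Fintype F] (hF : Fintype.card F = p) (hp5 : 5 ≤ p)

include hF hp5 in
/-- The factorization by `Z(J(S))` for coprime action with fixed points not involving `PSL₂(p)`. -/
theorem sup_normalizer_zj_of_fixed {G : Type u'} [Group G] [Finite G] (hpG : p ∣ Nat.card G)
    (hG : Cfsg.IsPConstrained p G) (S : Sylow p G) (A : Subgroup (MulAut G))
    (hA : (Nat.card A).Coprime (Nat.card G)) (C : Subgroup G) (hC : ∀ g : G, g ∈ C ↔ ∀ a ∈ A, a g = g)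
    (hfix : ¬ Cfsg.Involves (Matrix.ProjectiveSpecialLinearGroup (Fin 2) F) ↥C) :
    Cfsg.pPrimeCore p G ⊔ Subgroup.normalizer (zj 0 (S : Subgroup G) : Set G) = ⊤ := by
  set N := Cfsg.pPrimeCore p G with hN
  refine sup_normalizer_zj_eq_top CfsgLib.PCore.pPrimeCore_coprime S ?_
  set q := QuotientGroup.mk' N with hq
  -- the action on the quotient
  have hNmap : ∀ a : MulAut G, N.map (a : G ≃* G).toMonoidHom = N := fun a =>
    CfsgLib.PCore.map_pPrimeCore_equiv (p := p) a
  let θ : A →* MulAut (G ⧸ N) :=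
    { toFun := fun a => QuotientGroup.congr N N a.1 (hNmap a.1)
      map_one' := MulEquiv.ext fun x => QuotientGroup.induction_on x fun g => rfl
      map_mul' := fun a b => MulEquiv.ext fun x => QuotientGroup.induction_on x fun g => rfl }
  set A' := θ.range with hA'
  have hcA : Nat.card A' ∣ Nat.card A := Subgroup.card_range_dvd θ
  have hcG : Nat.card (G ⧸ N) ∣ Nat.card G := Subgroup.card_quotient_dvd_card N
  have hcop' : (Nat.card A').Coprime (Nat.card (G ⧸ N)) := (hA.coprime_dvd_left hcA).coprime_dvd_right hcG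
  have hpA : ¬ p ∣ Nat.card A' := fun h =>
    Nat.not_coprime_of_dvd_of_dvd (Fact.out : p.Prime).one_lt (h.trans hcA) hpG hA
  let : Finite A := Nat.finite_of_card_ne_zero fun h0 => by
    rw [h0, Nat.coprime_zero_left] at hA
    rw [hA] at hpG
    exact (Fact.out : p.Prime).not_dvd_one hpG
  let L := (G ⧸ N) ⋊[A'.subtype] A'
  let L₀ := G ⋊[A.subtype] A
  let : Finite A' := inferInstance
  let : Finite L := Finite.of_equiv _ SemidirectProduct.equivProd.symm
  let : Finite L₀ := Finite.of_equiv _ SemidirectProduct.equivProd.symm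
  let ι : G ⧸ N →* L := SemidirectProduct.inl
  have hι : Function.Injective ι := SemidirectProduct.inl_injective
  set K := ι.range with hK
  set B := (SemidirectProduct.inr : A' →* L).range with hB
  haveI hKn : K.Normal := by
    rw [hK, show ι = SemidirectProduct.inl from rfl, SemidirectProduct.range_inl_eq_ker_rightHom]
    infer_instance
  have cK : Nat.card K = Nat.card (G ⧸ N) := (Nat.card_congr (MonoidHom.ofInjective hι).toEquiv).symm
  have cB : Nat.card B = Nat.card A' :=
    (Nat.card_congr (MonoidHom.ofInjective SemidirectProduct.inr_injective).toEquiv).symm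
  have hKB : K ⊔ B = ⊤ := eq_top_iff.2 fun x _ => by
    rw [← SemidirectProduct.inl_left_mul_inr_right x]
    exact Subgroup.mul_mem_sup ⟨_, rfl⟩ ⟨_, rfl⟩
  have hcopKB : (Nat.card B).Coprime (Nat.card K) := by rw [cB, cK]; exact hcop'
  -- fixed points lift
  let mq : L₀ →* L := SemidirectProduct.map q θ.rangeRestrict fun a => MonoidHom.ext fun g => rfl
  have hC' : ¬ Cfsg.Involves (Matrix.ProjectiveSpecialLinearGroup (Fin 2) F)
      ↥(K ⊓ Subgroup.centralizer (B : Set L)) := by
    intro h
    set K₀ := (SemidirectProduct.inl : G →* L₀).range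
    set B₀ := (SemidirectProduct.inr : A →* L₀).range
    haveI : K₀.Normal := by
      show (SemidirectProduct.inl : G →* L₀).range.Normal
      rw [SemidirectProduct.range_inl_eq_ker_rightHom]
      infer_instance
    have cK₀ : Nat.card K₀ = Nat.card G :=
      (Nat.card_congr (MonoidHom.ofInjective SemidirectProduct.inl_injective).toEquiv).symm
    have cB₀ : Nat.card B₀ = Nat.card A :=
      (Nat.card_congr (MonoidHom.ofInjective SemidirectProduct.inr_injective).toEquiv).symm
    have e1 : K₀.map mq = K := by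
      ext x
      constructor
      · rintro ⟨_, ⟨g, rfl⟩, rfl⟩
        exact ⟨q g, (SemidirectProduct.map_inl _ _ _ g).symm⟩
      · rintro ⟨g, rfl⟩
        obtain ⟨g, rfl⟩ := QuotientGroup.mk'_surjective N g
        exact ⟨_, ⟨g, rfl⟩, SemidirectProduct.map_inl _ _ _ g⟩
    have e2 : B₀.map mq = B := by
      ext x
      constructor
      · rintro ⟨_, ⟨g, rfl⟩, rfl⟩
        exact ⟨θ.rangeRestrict g, (SemidirectProduct.map_inr _ _ _ g).symm⟩
      · rintro ⟨g, rfl⟩
        obtain ⟨g, rfl⟩ := θ.rangeRestrict_surjective g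
        exact ⟨_, ⟨g, rfl⟩, SemidirectProduct.map_inr _ _ _ g⟩
    have hcop₀ : (Nat.card B₀).Coprime (Nat.card K₀) := by rw [cB₀, cK₀]; exact hA
    rw [← e1, ← e2, ← CfsgLib.Coprime.map_inf_centralizer mq B₀ K₀
      (by rw [Subgroup.normalizer_eq_top K₀]; exact le_top) hcop₀ (solvable_of_coprime B₀ K₀ hcop₀)] at h
    have h' := CfsgLib.LocalEven.Involved.involves_of_surjective (mq.subgroupMap _)
      (mq.subgroupMap_surjective _) h
    have hmem : ∀ x : ↥(K₀ ⊓ Subgroup.centralizer (B₀ : Set L₀)), x.1.left ∈ C := by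
      intro x
      obtain ⟨⟨g, hg⟩, hx⟩ := Subgroup.mem_inf.1 x.2
      rw [hC]
      intro a ha
      have h1 := congrArg SemidirectProduct.left
        (Subgroup.mem_centralizer_iff.1 hx _ ⟨(⟨a, ha⟩ : A), rfl⟩)
      simp only [SemidirectProduct.mul_left, SemidirectProduct.left_inr, SemidirectProduct.right_inr,
        one_mul, map_one, mul_one] at h1
      exact h1
    let lc : ↥(K₀ ⊓ Subgroup.centralizer (B₀ : Set L₀)) →* C :=
      { toFun := fun x => ⟨x.1.left, hmem x⟩
        map_one' := rfl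
        map_mul' := fun x y => Subtype.ext (by
          obtain ⟨⟨g, hg⟩, -⟩ := Subgroup.mem_inf.1 x.2
          show (x.1 * y.1).left = x.1.left * y.1.left
          rw [SemidirectProduct.mul_left, ← hg, SemidirectProduct.right_inl, map_one, MulAut.one_apply]) }
    refine hfix (involves_of_injective lc (fun x y e => ?_) h')
    obtain ⟨⟨g, hg⟩, -⟩ := Subgroup.mem_inf.1 x.2
    obtain ⟨⟨g', hg'⟩, -⟩ := Subgroup.mem_inf.1 y.2
    have e' : x.1.left = y.1.left := congrArg Subtype.val e
    refine Subtype.ext (SemidirectProduct.ext e' ?_)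
    rw [← hg, ← hg', SemidirectProduct.right_inl, SemidirectProduct.right_inl]
  -- `L` has characteristic `p`
  have hG0 : Cfsg.pPrimeCore p (G ⧸ N) = ⊥ := CfsgLib.PCore.pPrimeCore_quotient_pPrimeCore
  have hGc : Subgroup.centralizer (Cfsg.pCore p (G ⧸ N) : Set (G ⧸ N)) ≤ Cfsg.pCore p (G ⧸ N) :=
    isPConstrained_iff.mp hG
  set P₀ := (Cfsg.pCore p (G ⧸ N)).map ι with hP₀
  have hP₀n : P₀.Normal := by
    have h1 : P₀ = (Cfsg.pCore p K).map K.subtype := by
      rw [hP₀, ← CfsgLib.PCore.map_pCore_equiv (p := p) (MonoidHom.ofInjective hι), Subgroup.map_map]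
      rfl
    rw [h1]
    exact ⟨fun x hx g => conj_mem_map_pCore K (by rw [Subgroup.normalizer_eq_top K]; trivial) hx⟩
  have hCP : Subgroup.centralizer (P₀ : Set L) ≤ Cfsg.pCore p L := by
    haveI := hP₀n
    set Z := Subgroup.centralizer (P₀ : Set L) with hZ
    have hZK : ∀ x ∈ Z, x ∈ K → x ∈ P₀ := by
      rintro x hx ⟨g, rfl⟩
      refine ⟨g, hGc (Subgroup.mem_centralizer_iff.2 fun r hr => hι ?_), rfl⟩
      rw [map_mul, map_mul]
      exact Subgroup.mem_centralizer_iff.1 hx _ ⟨r, hr, rfl⟩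
    refine CfsgLib.PCore.le_pCore inferInstance ?_
    intro z
    obtain ⟨m, l, hl, hord⟩ := Nat.exists_eq_pow_mul_and_not_dvd (orderOf_pos z.1).ne' p (Fact.out : p.Prime).ne_one
    refine ⟨m, Subtype.ext ?_⟩
    set y := z.1 ^ p ^ m with hy
    show y = 1
    have hyZ : y ∈ Z := pow_mem z.2 _
    have hyl : orderOf y = l := by
      rw [hy, orderOf_pow, hord, Nat.gcd_mul_right_left,
        Nat.mul_div_cancel_left _ (pow_pos (Fact.out : p.Prime).pos m)]
    have hlcop : l.Coprime p := ((Fact.out : p.Prime).coprime_iff_not_dvd.2 hl).symm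
    have hP₀p : IsPGroup p P₀ := CfsgLib.PCore.pCore_isPGroup.map _
    -- the element of `p'`-order
    have hinK : ∀ x ∈ Z, x ∈ K → (orderOf x).Coprime p → x = 1 := by
      intro x hxZ hxK hxp
      obtain ⟨i, hi⟩ := hP₀p ⟨x, hZK x hxZ hxK⟩
      exact orderOf_eq_one_iff.1 (Nat.eq_one_of_dvd_coprimes (hxp.pow_right i) dvd_rfl
        (orderOf_dvd_of_pow_eq_one (congrArg Subtype.val hi)))
    have horK : y ^ Nat.card A' ∈ K := by
      rw [hK, show ι = SemidirectProduct.inl from rfl, SemidirectProduct.range_inl_eq_ker_rightHom,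
        MonoidHom.mem_ker, map_pow, pow_card_eq_one']
    have hyA : y ^ Nat.card A' = 1 :=
      hinK _ (pow_mem hyZ _) horK (Nat.Coprime.coprime_dvd_left (orderOf_pow_dvd _) (hyl ▸ hlcop))
    have hlA : orderOf y ∣ Nat.card A' := orderOf_dvd_of_pow_eq_one hyA
    have h1 : ⁅K, Subgroup.zpowers y⁆ ≤ P₀ := by
      refine (le_inf ((Subgroup.commutator_mono le_rfl (Subgroup.zpowers_le.2 hyZ)).trans
        (Subgroup.commutator_le_right _ _)) ?_).trans fun x hx => hZK x hx.1 hx.2
      exact (Subgroup.commutator_mono le_rfl le_top).trans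
        (Subgroup.commutator_le_left K ⊤)
    have h2 : ⁅⁅K, Subgroup.zpowers y⁆, Subgroup.zpowers y⁆ = ⊥ := by
      refine le_bot_iff.1 ((Subgroup.commutator_mono h1 le_rfl).trans ?_)
      rw [le_bot_iff, Subgroup.commutator_comm, Subgroup.commutator_eq_bot_iff_le_centralizer]
      exact Subgroup.zpowers_le.2 hyZ
    have h3 := CfsgLib.Coprime.commutator_eq_bot_of_commutator_commutator_eq_bot (Subgroup.zpowers y) K
      (by rw [Subgroup.normalizer_eq_top K]; exact le_top)
      (by rw [Nat.card_zpowers, cK]; exact hcop'.coprime_dvd_left hlA)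
      (solvable_of_coprime _ _ (by rw [Nat.card_zpowers, cK]; exact hcop'.coprime_dvd_left hlA)) h2
    rw [Subgroup.commutator_comm, Subgroup.commutator_eq_bot_iff_le_centralizer] at h3
    have hyc := h3 (Subgroup.mem_zpowers y)
    have hright : y.right = 1 := by
      have hb : ∀ g, y.left * y.right.1 g = g * y.left := by
        intro g
        have := congrArg SemidirectProduct.left (Subgroup.mem_centralizer_iff.1 hyc (ι g) ⟨g, rfl⟩)
        simp only [ι, SemidirectProduct.mul_left, SemidirectProduct.left_inl, SemidirectProduct.right_inl,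
          map_one, MulAut.one_apply, Subgroup.coe_subtype] at this
        exact this.symm
      have hconj : y.right.1 = MulAut.conj y.left⁻¹ := by
        ext g
        rw [MulAut.conj_apply, inv_inv, mul_assoc, ← hb g, inv_mul_cancel_left]
      refine orderOf_eq_one_iff.1 (Nat.eq_one_of_dvd_coprimes hcop' (orderOf_dvd_natCard _) ?_)
      rw [← Subgroup.orderOf_coe, hconj]
      exact (orderOf_map_dvd MulAut.conj _).trans (orderOf_dvd_natCard _)
    refine hinK y hyZ ⟨y.left, SemidirectProduct.ext rfl hright.symm⟩ (hyl ▸ hlcop)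
  have hLc : Subgroup.centralizer (Cfsg.pCore p L : Set L) ≤ Cfsg.pCore p L := by
    refine (Subgroup.centralizer_le ?_).trans hCP
    exact CfsgLib.PCore.le_pCore hP₀n (CfsgLib.PCore.pCore_isPGroup.map _)
  -- Glauberman
  set S' := S.mapSurjective (QuotientGroup.mk'_surjective N) with hS'
  have hT : Nat.card ((S' : Subgroup (G ⧸ N)).map ι) = p ^ (Nat.card L).factorization p := by
    rw [Subgroup.card_map_of_injective hι, S'.card_eq_multiplicity]
    congr 1
    rw [SemidirectProduct.card, Nat.factorization_mul Nat.card_pos.ne' Nat.card_pos.ne', Finsupp.add_apply,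
      Nat.factorization_eq_zero_of_not_dvd hpA, add_zero]
  let T : Sylow p L := Sylow.ofCard ((S' : Subgroup (G ⧸ N)).map ι) hT
  have hnorm := zj_normal (e := 0) (S := T) (by omega) (Or.inl rfl) hLc
    (fun Q _ hQ => isPStableOn_of_coprime hF hp5 K B hcopKB hKB hC' (by rw [cB]; exact hpA) Q hQ)
  have he : zj 0 ((S' : Subgroup (G ⧸ N)).map ι) = (zj 0 (S' : Subgroup (G ⧸ N))).map ι :=
    zj_map_of_injOn ι _ (hι.comp Subtype.val_injective)
  have hnorm' : (zj 0 ((S' : Subgroup (G ⧸ N)).map ι)).Normal := hnorm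
  rw [he] at hnorm'
  have := hnorm'.comap ι
  rw [Subgroup.comap_map_eq_self_of_injective hι, hS', Sylow.coe_mapSurjective] at this
  exact this

end CfsgLib.QuadFixed
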